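import Mathlib

/-!
# The root group of the three-dimensional unitary group in characteristic two

For a field with `q²` elements, `q = 2 ^ n`, the pairs `(a, b)` with `b + b̄ = ā a` form a group, on which the
multiplicative group acts by `(a, b) ↦ (λ a, λ̄ λ b)`. Together with a point at infinity these pairs are the points of
the unital, with the three kinds of permutations `tau`, `delta` and `omega`.
-/

set_option autoImplicit false
set_option linter.unusedSectionVars false

namespace Cfsg.Lib.UThreeEven

universe u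

/-- A field with `q²` elements, `q = 2 ^ n` greater than 2. -/
structure Dat (F : Type u) [Field F] [Fintype F] where
  /-- The size of the fixed field. -/
  q : ℕ
  /-- The exponent. -/
  n : ℕ
  hn : q = 2 ^ n
  hq : 2 < q
  hF : Fintype.card F = q ^ 2

variable {F : Type u} [Field F] [Fintype F] [CharP F 2] (D : Dat F)

namespace Dat

theorem exists_dat (q : ℕ) (hq : 2 < q) (hF : Fintype.card F = q ^ 2) : ∃ D : Dat F, D.q = q := by
  haveI : Fact (Nat.Prime 2) := ⟨Nat.prime_two⟩
  obtain ⟨m, -, hm⟩ := FiniteField.card F 2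
  obtain ⟨n, -, hn⟩ := (Nat.dvd_prime_pow Nat.prime_two).1 (show q ∣ 2 ^ (m : ℕ) from hm ▸ hF ▸ dvd_pow_self q two_ne_zero)
  exact ⟨⟨q, n, hn, hq, hF⟩, rfl⟩

/-- The involutory automorphism. -/
noncomputable def bar : F →+* F :=
  haveI : Fact (Nat.Prime 2) := ⟨Nat.prime_two⟩
  iterateFrobenius F 2 D.n

theorem bar_apply (x : F) : D.bar x = x ^ D.q := by
  rw [D.hn]; rfl

theorem add_pow_q (x y : F) : (x + y) ^ D.q = x ^ D.q + y ^ D.q := by
  rw [← D.bar_apply, map_add, D.bar_apply, D.bar_apply]

theorem bar_bar (x : F) : D.bar (D.bar x) = x := by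
  rw [D.bar_apply, D.bar_apply, ← pow_mul, ← sq, ← D.hF, FiniteField.pow_card]

theorem add_self (x : F) : x + x = 0 := CharTwo.add_self_eq_zero x

theorem one_ne : D.q ≠ 0 := by have := D.hq; omega

theorem q_even : Even D.q := by
  have h := D.hq
  rw [D.hn] at h ⊢
  refine Nat.even_pow.2 ⟨even_two, ?_⟩
  rintro e
  rw [e] at h; omega

theorem exists_moved : ∃ x : F, D.bar x ≠ x := by
  by_contra h
  push Not at h
  have h1 : (Finset.univ : Finset F).card ≤
      (Polynomial.X ^ D.q - Polynomial.X : Polynomial F).natDegree := by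
    refine Polynomial.card_le_degree_of_subset_roots fun x _ => ?_
    rw [Polynomial.mem_roots (FiniteField.X_pow_card_sub_X_ne_zero F (by have := D.hq; omega))]
    simp [← D.bar_apply, h x]
  rw [Finset.card_univ, D.hF, FiniteField.X_pow_card_sub_X_natDegree_eq F (by have := D.hq; omega)] at h1
  have := D.hq
  nlinarith

theorem exists_trace_one : ∃ t : F, t + D.bar t = 1 := by
  obtain ⟨x, hx⟩ := D.exists_moved
  have h0 : x + D.bar x ≠ 0 := fun e => hx (CharTwo.add_eq_zero.1 e).symm
  refine ⟨x / (x + D.bar x), ?_⟩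
  rw [map_div₀, map_add, D.bar_bar, add_comm (D.bar x) x, ← add_div, div_self h0]

/-- Every fixed element is the trace of something. -/
theorem exists_trace {c : F} (hc : D.bar c = c) : ∃ t : F, t + D.bar t = c := by
  obtain ⟨t, ht⟩ := D.exists_trace_one
  exact ⟨c * t, by rw [map_mul, hc, ← mul_add, ht, mul_one]⟩

/-- Every fixed element has a fixed square root. -/
theorem exists_sqrt {c : F} (hc : D.bar c = c) : ∃ s : F, D.bar s = s ∧ s * s = c := by
  haveI : Fact (Nat.Prime 2) := ⟨Nat.prime_two⟩
  obtain ⟨s, hs⟩ := (PerfectRing.bijective_frobenius (R := F) (p := 2)).surjective c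
  replace hs : s ^ 2 = c := hs
  refine ⟨s, ?_, by rw [← sq, hs]⟩
  refine (PerfectRing.bijective_frobenius (R := F) (p := 2)).injective ?_
  show D.bar s ^ 2 = s ^ 2
  rw [← map_pow, hs, hc]

theorem bar_trace (x : F) : D.bar (x + D.bar x) = x + D.bar x := by
  rw [map_add, D.bar_bar, add_comm]

theorem bar_norm (x : F) : D.bar (D.bar x * x) = D.bar x * x := by
  rw [map_mul, D.bar_bar, mul_comm]

/-! ## The group of norm one elements -/

/-- The norm one group. -/
def R0 : Subgroup Fˣ := (powMonoidHom (D.q + 1) : Fˣ →* Fˣ).ker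

theorem mem_R0 {l : Fˣ} : l ∈ D.R0 ↔ D.bar (l : F) * (l : F) = 1 := by
  rw [R0, MonoidHom.mem_ker, powMonoidHom_apply, D.bar_apply, Units.ext_iff, Units.val_pow_eq_pow_val, pow_succ,
    Units.val_one]

theorem R0_norm (r : D.R0) : D.bar ((r : Fˣ) : F) * ((r : Fˣ) : F) = 1 := D.mem_R0.1 r.2

theorem R0_bar (r : D.R0) : D.bar ((r : Fˣ) : F) = ((r : Fˣ) : F)⁻¹ :=
  eq_inv_of_mul_eq_one_left (D.R0_norm r)

theorem R0_pow (r : D.R0) : r ^ (D.q + 1) = 1 := Subtype.ext (by rw [SubmonoidClass.coe_pow]; exact r.2)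

theorem card_units : Nat.card Fˣ = D.q ^ 2 - 1 := by
  classical
  rw [Nat.card_eq_fintype_card, Fintype.card_units, D.hF]

theorem q_sq_sub_one : D.q ^ 2 - 1 = (D.q + 1) * (D.q - 1) := by
  simpa using Nat.sq_sub_sq D.q 1

theorem card_R0 : Nat.card D.R0 = D.q + 1 := by
  unfold R0
  rw [IsCyclic.card_powMonoidHom_ker, D.card_units, D.q_sq_sub_one]
  exact Nat.gcd_eq_right (dvd_mul_right _ _)

theorem coprime_add_sub : Nat.Coprime (D.q + 1) (D.q - 1) := by
  have h := D.hq
  obtain ⟨k, hk⟩ := D.q_even
  have e : D.q + 1 = (D.q - 1) + 2 := by omega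
  rw [e, Nat.coprime_self_add_left, Nat.coprime_two_left]
  exact ⟨k - 1, by omega⟩

theorem coprime_cube : Nat.Coprime (D.q ^ 3) (D.q ^ 2 - 1) := by
  refine Nat.Coprime.pow_left 3 ?_
  have h : D.q ^ 2 - 1 + 1 = D.q * D.q := by
    have := D.hq
    have : 1 ≤ D.q ^ 2 := Nat.one_le_pow _ _ (by omega)
    rw [← sq]; omega
  refine Nat.coprime_of_dvd fun k hk hkq hk2 => hk.ne_one ?_
  have : k ∣ D.q ^ 2 - 1 + 1 := h ▸ hkq.mul_right _
  exact Nat.dvd_one.1 ((Nat.dvd_add_right hk2).1 this)

/-- A set of ring operations stable under the norm one group is everything. -/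
theorem closure_R0 : Subfield.closure {x : F | D.bar x * x = 1} = ⊤ := by
  classical
  set K := Subfield.closure {x : F | D.bar x * x = 1} with hK
  have hc : Fintype.card F = Fintype.card K ^ Module.finrank K F := Module.card_eq_pow_finrank
  have hq1 : D.q + 1 ≤ Nat.card K := by
    rw [← D.card_R0]
    refine Nat.card_le_card_of_injective (fun r : D.R0 => (⟨((r : Fˣ) : F),
      Subfield.subset_closure (D.R0_norm r)⟩ : K)) fun a b e => ?_
    exact Subtype.ext (Units.ext (congrArg Subtype.val e))
  rw [Nat.card_eq_fintype_card] at hq1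
  have h1 : Module.finrank K F = 1 := by
    rcases Nat.lt_or_ge (Module.finrank K F) 2 with h | h
    · have := (Module.finrank_pos : 0 < Module.finrank K F)
      omega
    · have h2 : Fintype.card K ^ 2 ≤ Fintype.card F := hc ▸ Nat.pow_le_pow_right Fintype.card_pos h
      rw [D.hF] at h2
      exact absurd (Nat.pow_le_pow_left hq1 2) (by
        intro h3
        have := h3.trans h2
        nlinarith)
  refine eq_top_iff.2 fun x _ => ?_
  have hb : Function.Bijective (fun k : K => (k : F)) := by
    rw [Fintype.bijective_iff_injective_and_card]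
    exact ⟨Subtype.coe_injective, by rw [hc, h1, pow_one]⟩
  obtain ⟨k, hk⟩ := hb.surjective x
  exact hk ▸ k.2

/-- An additive map commuting with the norm one scalars is linear. -/
theorem linear_of_comm (f : F →+ F) (hf : ∀ r : F, D.bar r * r = 1 → ∀ a, f (r * a) = r * f a) (a : F) :
    f a = f 1 * a := by
  have key : ∀ l : F, l ∈ Subfield.closure {x : F | D.bar x * x = 1} → ∀ a, f (l * a) = l * f a := by
    intro l hl
    induction hl using Subfield.closure_induction with
    | mem x hx => exact hf x hx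
    | one => intro a; rw [one_mul, one_mul]
    | add x y _ _ h1 h2 => intro a; rw [add_mul, map_add, h1, h2, add_mul]
    | neg x _ h1 => intro a; rw [neg_mul, map_neg, h1, neg_mul]
    | mul x y _ _ h1 h2 => intro a; rw [mul_assoc, h1, h2, mul_assoc]
    | inv x _ h1 =>
      intro a
      by_cases h0 : x = 0
      · simp [h0]
      · have := h1 (x⁻¹ * a)
        rw [mul_inv_cancel_left₀ h0] at this
        rw [this, inv_mul_cancel_left₀ h0]
  have := key a (D.closure_R0 ▸ Subfield.mem_top a) 1
  rw [mul_one] at this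
  rw [this, mul_comm]

end Dat

/-! ## The group of points -/

/-- A pair `(a, b)` with `b + b̄ = ā a`. -/
@[ext]
structure Pt (D : Dat F) where
  /-- The first coordinate. -/
  a : F
  /-- The second coordinate. -/
  b : F
  h : b + D.bar b = D.bar a * a

namespace Pt

variable {D}

noncomputable instance : Mul (Pt D) := ⟨fun x y => ⟨x.a + y.a, x.b + y.b + D.bar x.a * y.a, by
  simp only [map_add, map_mul, D.bar_bar]
  linear_combination x.h + y.h⟩⟩

instance : One (Pt D) := ⟨⟨0, 0, by simp⟩⟩

noncomputable instance : Inv (Pt D) := ⟨fun x => ⟨x.a, D.bar x.b, by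
  rw [D.bar_bar, add_comm]; exact x.h⟩⟩

@[simp] theorem mul_a (x y : Pt D) : (x * y).a = x.a + y.a := rfl
@[simp] theorem mul_b (x y : Pt D) : (x * y).b = x.b + y.b + D.bar x.a * y.a := rfl
@[simp] theorem one_a : (1 : Pt D).a = 0 := rfl
@[simp] theorem one_b : (1 : Pt D).b = 0 := rfl
@[simp] theorem inv_a (x : Pt D) : x⁻¹.a = x.a := rfl
@[simp] theorem inv_b (x : Pt D) : x⁻¹.b = D.bar x.b := rfl

theorem mul_assoc' (x y z : Pt D) : x * y * z = x * (y * z) := by
  ext
  · simp [add_assoc]
  · simp only [mul_a, mul_b, map_add]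
    ring

theorem inv_mul_self (x : Pt D) : x⁻¹ * x = 1 := by
  ext
  · simp [Dat.add_self]
  · simp only [mul_b, inv_b, inv_a, one_b]
    linear_combination x.h + (D.bar x.a * x.a) * (CharTwo.two_eq_zero : (2 : F) = 0)

noncomputable instance : Group (Pt D) :=
  Group.ofLeftAxioms mul_assoc' (fun x => by ext <;> simp) inv_mul_self

/-- The central element with second coordinate `c`. -/
def zc (D : Dat F) (c : F) (hc : D.bar c = c) : Pt D := ⟨0, c, by simp [hc, Dat.add_self]⟩

theorem zc_mul (c : F) (hc : D.bar c = c) (x : Pt D) : zc D c hc * x = x * zc D c hc := by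
  ext <;> simp [zc, add_comm]

theorem sq_a (x : Pt D) : (x * x).a = 0 := by simp [Dat.add_self]

theorem sq_b (x : Pt D) : (x * x).b = D.bar x.a * x.a := by simp [Dat.add_self]

theorem bar_b {x : Pt D} (hx : x.a = 0) : D.bar x.b = x.b := by
  have := x.h
  rw [hx, map_zero, zero_mul] at this
  exact (CharTwo.add_eq_zero.1 this).symm

theorem eq_one_of_b {x : Pt D} (hx : x.b = 0) : x = 1 := by
  have h := x.h
  rw [hx, map_zero, add_zero, eq_comm, mul_eq_zero, map_eq_zero, or_self] at h
  ext <;> simp [h, hx]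

theorem pow_four (x : Pt D) : x ^ 4 = 1 := by
  have h1 : ∀ y : Pt D, y.a = 0 → y * y = 1 := fun y hy => by ext <;> simp [hy, Dat.add_self]
  rw [show (4 : ℕ) = 2 + 2 from rfl, pow_add, sq, h1 _ (sq_a x)]

/-- The action of the multiplicative group. -/
noncomputable def sca (D : Dat F) : Fˣ →* MulAut (Pt D) where
  toFun l :=
    { toFun := fun x => ⟨(l : F) * x.a, D.bar (l : F) * (l : F) * x.b, by
        simp only [map_mul, D.bar_bar]
        linear_combination (D.bar (l : F) * (l : F)) * x.h⟩
      invFun := fun x => ⟨((l⁻¹ : Fˣ) : F) * x.a, D.bar ((l⁻¹ : Fˣ) : F) * ((l⁻¹ : Fˣ) : F) * x.b, by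
        simp only [map_mul, D.bar_bar]
        linear_combination (D.bar ((l⁻¹ : Fˣ) : F) * ((l⁻¹ : Fˣ) : F)) * x.h⟩
      left_inv := fun x => by
        ext <;> simp [Units.val_inv_eq_inv_val]
        field_simp
      right_inv := fun x => by
        ext <;> simp [Units.val_inv_eq_inv_val]
        field_simp
      map_mul' := fun x y => by
        ext
        · simp [mul_add]
        · simp only [mul_b, map_mul, mul_a]
          ring }
  map_one' := by ext <;> simp
  map_mul' l m := by
    ext
    · simp [mul_assoc]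
    · simp only [Units.val_mul, map_mul, MulAut.mul_apply, MulEquiv.coe_mk, Equiv.coe_fn_mk]
      ring

@[simp] theorem sca_a (l : Fˣ) (x : Pt D) : (sca D l x).a = (l : F) * x.a := rfl
@[simp] theorem sca_b (l : Fˣ) (x : Pt D) : (sca D l x).b = D.bar (l : F) * (l : F) * x.b := rfl

theorem sca_R0 (r : D.R0) (x : Pt D) : (sca D (r : Fˣ) x).b = x.b := by
  rw [sca_b, D.R0_norm, one_mul]

noncomputable instance : Finite (Pt D) :=
  Finite.of_injective (fun x : Pt D => (x.a, x.b)) fun _ _ e => Pt.ext (congrArg Prod.fst e) (congrArg Prod.snd e)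

/-- The map `(a, b) ↦ (a / b, 1 / b)`. -/
noncomputable def flip (x : Pt D) : Pt D := ⟨x.a / x.b, 1 / x.b, by
  by_cases h0 : x.b = 0
  · simp [h0]
  · have hb : D.bar x.b ≠ 0 := (map_ne_zero D.bar).2 h0
    rw [map_div₀, map_div₀, map_one]
    field_simp
    linear_combination x.h⟩

theorem flip_flip (x : Pt D) (hx : x ≠ 1) : flip (flip x) = x := by
  have h0 : x.b ≠ 0 := fun e => hx (eq_one_of_b e)
  ext <;> simp [flip, h0]

theorem flip_ne_one {x : Pt D} (hx : x ≠ 1) : flip x ≠ 1 := fun e =>
  hx (by
    have := congrArg Pt.b e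
    simp [flip] at this
    exact eq_one_of_b this)

end Pt

open Classical in
/-- The reflection exchanging infinity and the origin. -/
noncomputable def omegaFun : Option (Pt D) → Option (Pt D)
  | none => some 1
  | some x => if x = 1 then none else some (Pt.flip x)

theorem omegaFun_invol (p : Option (Pt D)) : omegaFun D (omegaFun D p) = p := by
  rcases p with _ | x
  · simp [omegaFun]
  · by_cases hx : x = 1
    · simp [omegaFun, hx]
    · simp [omegaFun, hx, Pt.flip_ne_one hx, Pt.flip_flip x hx]

/-- The permutation `omega` of the points. -/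
noncomputable def omega : Equiv.Perm (Option (Pt D)) := ⟨omegaFun D, omegaFun D, omegaFun_invol D, omegaFun_invol D⟩

/-- The translation by `u`. -/
noncomputable def tau (u : Pt D) : Equiv.Perm (Option (Pt D)) := Equiv.optionCongr (Equiv.mulLeft u)

/-- The dilatation by `l`. -/
noncomputable def delta (l : Fˣ) : Equiv.Perm (Option (Pt D)) := Equiv.optionCongr (Pt.sca D l).toEquiv

/-- The permutations of the unital. -/
noncomputable def range0 : Set (Equiv.Perm (Option (Pt D))) :=
  {e | (∃ u l, e = tau D u * delta D l) ∨ ∃ u l v, e = tau D u * delta D l * omega D * tau D v}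

end Cfsg.Lib.UThreeEven
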