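import Cfsg.Agent.UnitaryThreeEven.Field

/-!
# Groups with the involution centraliser of the three-dimensional unitary group in characteristic two

The centraliser of the distinguished involution is the product of a copy of the root group and a copy of the norm one
group; a Sylow 2-subgroup is not normal and there is one class of involutions.
-/

set_option autoImplicit false
set_option linter.unusedSectionVars false

namespace Cfsg.Lib.UThreeEven

universe u v

noncomputable section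

variable {F : Type u} [Field F] [Fintype F] [CharP F 2]

/-- The distinguished central element. -/
def one' (D : Dat F) : Pt D := Pt.zc D 1 (map_one _)

/-- The hypothesis. -/
structure Hyp (D : Dat F) (G : Type v) [Group G] where
  /-- The copy of the root group. -/
  U : Pt D →* G
  /-- The copy of the norm one group. -/
  R : D.R0 →* G
  U_inj : Function.Injective U
  R_inj : Function.Injective R
  conj : ∀ (r : D.R0) (a : Pt D), R r * U a * (R r)⁻¹ = U (Pt.sca D (r : Fˣ) a)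
  cent : ∀ g : G, g * U (one' D) = U (one' D) * g ↔ ∃ a r, g = U a * R r
  oneClass : ∀ s : G, orderOf s = 2 → ∃ g, g * U (one' D) * g⁻¹ = s
  notNormal : ∀ P : Sylow 2 G, ¬ (P : Subgroup G).Normal

namespace Hyp

variable {D : Dat F} {G : Type v} [Group G] [Finite G] (h : Hyp D G)

/-- The root group. -/
def Ug : Subgroup G := h.U.range

/-- The point stabiliser. -/
def H : Subgroup G := Subgroup.normalizer (h.Ug : Set G)

/-- The distinguished involution. -/
def x : G := h.U (one' D)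

/-- Its centraliser. -/
def C : Subgroup G := Subgroup.centralizer {h.x}

theorem mem_C {g : G} : g ∈ h.C ↔ ∃ a r, g = h.U a * h.R r := by
  rw [C, Subgroup.mem_centralizer_singleton_iff]
  exact h.cent g

theorem R_mul (r : D.R0) (a : Pt D) : h.R r * h.U a = h.U (Pt.sca D (r : Fˣ) a) * h.R r :=
  (eq_mul_inv_iff_mul_eq.1 (h.conj r a).symm).symm

theorem U_mem_C (a : Pt D) : h.U a ∈ h.C := h.mem_C.2 ⟨a, 1, by simp⟩

theorem R_mem_C (r : D.R0) : h.R r ∈ h.C := h.mem_C.2 ⟨1, r, by simp⟩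

theorem x_ne : h.x ≠ 1 := fun e => by
  have := h.U_inj (e.trans (map_one h.U).symm)
  simpa [one', Pt.zc] using congrArg Pt.b this

theorem pow_form (a : Pt D) (r : D.R0) (k : ℕ) : ∃ b, (h.U a * h.R r) ^ k = h.U b * h.R (r ^ k) := by
  induction k with
  | zero => exact ⟨1, by simp⟩
  | succ k ih =>
    obtain ⟨b, hb⟩ := ih
    refine ⟨b * Pt.sca D ((r ^ k : D.R0) : Fˣ) a, ?_⟩
    rw [pow_succ, hb, map_mul h.U, pow_succ r k, map_mul h.R]
    calc h.U b * h.R (r ^ k) * (h.U a * h.R r) = h.U b * (h.R (r ^ k) * h.U a) * h.R r := by group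
      _ = _ := by rw [R_mul]; group

/-- Elements of the root group that are products `U a * R r` have `r = 1`. -/
theorem eq_of_form {a b : Pt D} {r s : D.R0} (e : h.U a * h.R r = h.U b * h.R s) : a = b ∧ r = s := by
  have e1 : h.U (b⁻¹ * a) = h.R (s * r⁻¹) := by
    rw [map_mul, map_inv, map_mul h.R, map_inv h.R]
    calc (h.U b)⁻¹ * h.U a = (h.U b)⁻¹ * (h.U a * h.R r) * (h.R r)⁻¹ := by group
      _ = _ := by rw [e]; group
  have h4 : (s * r⁻¹) ^ 4 = 1 := h.R_inj (by rw [map_pow, map_one, ← e1, ← map_pow, Pt.pow_four, map_one])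
  have hsr : s * r⁻¹ = 1 := by
    have := pow_gcd_eq_one.2 ⟨h4, D.R0_pow (s * r⁻¹)⟩
    have hc : Nat.gcd 4 (D.q + 1) = 1 := by
      obtain ⟨k, hk⟩ := D.q_even
      exact Nat.Coprime.pow_left 2 (Nat.coprime_two_left.2 ⟨k, by omega⟩ : Nat.Coprime 2 (D.q + 1))
    rwa [hc, pow_one] at this
  obtain rfl : s = r := mul_inv_eq_one.1 hsr
  exact ⟨h.U_inj (mul_right_cancel e), rfl⟩

/-- The odd part of an element of the centraliser. -/
theorem mem_Ug_iff {a : Pt D} {r : D.R0} : h.U a * h.R r ∈ h.Ug ↔ r = 1 := by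
  constructor
  · rintro ⟨b, hb⟩
    exact (h.eq_of_form (show h.U a * h.R r = h.U b * h.R 1 by rw [map_one, mul_one, hb])).2
  · rintro rfl; exact ⟨a, by simp⟩

theorem pow_two_mem_Ug {g : G} (hg : g ∈ h.C) {k : ℕ} (hk : g ^ 2 ^ k = 1) : g ∈ h.Ug := by
  obtain ⟨a, r, rfl⟩ := h.mem_C.1 hg
  obtain ⟨b, hb⟩ := h.pow_form a r (2 ^ k)
  rw [hk] at hb
  have hr : r ^ 2 ^ k = 1 := (h.eq_of_form (a := 1) (r := 1) (by simpa using hb)).2.symm
  refine h.mem_Ug_iff.2 ?_
  have := pow_gcd_eq_one.2 ⟨hr, D.R0_pow r⟩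
  have hc : Nat.gcd (2 ^ k) (D.q + 1) = 1 := by
    refine Nat.Coprime.pow_left k ?_
    obtain ⟨j, hj⟩ := D.q_even
    exact Nat.coprime_two_left.2 ⟨j, by omega⟩
  rwa [hc, pow_one] at this

theorem card_Pt : Nat.card (Pt D) = D.q ^ 3 := by
  classical
  haveI : Fintype (Pt D) := Fintype.ofFinite _
  have key : ∀ a : F, Nat.card {b : F // b + D.bar b = D.bar a * a} = D.q := by
    intro a
    obtain ⟨t, ht⟩ := D.exists_trace (D.bar_norm a)
    have e1 : {b : F // b + D.bar b = D.bar a * a} ≃ {b : F // b + D.bar b = 0} :=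
      { toFun := fun b => ⟨b.1 + t, by rw [map_add]; linear_combination b.2 + ht +
          (D.bar a * a) * (CharTwo.two_eq_zero : (2 : F) = 0)⟩
        invFun := fun b => ⟨b.1 + t, by rw [map_add]; linear_combination b.2 + ht⟩
        left_inv := fun b => Subtype.ext (by simp [add_assoc, Dat.add_self])
        right_inv := fun b => Subtype.ext (by simp [add_assoc, Dat.add_self]) }
    rw [Nat.card_congr e1]
    have hK : Nat.card ((D.bar : F →+* F).toAddMonoidHom + AddMonoidHom.id F).ker = D.q := by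
      set f := (D.bar : F →+* F).toAddMonoidHom + AddMonoidHom.id F with hf
      have hker : ∀ c, c ∈ f.ker ↔ D.bar c = c := fun c => CharTwo.add_eq_zero
      have hrange : ∀ c, c ∈ f.range ↔ c ∈ f.ker := by
        intro c
        rw [hker]
        constructor
        · rintro ⟨y, rfl⟩
          show D.bar (D.bar y + y) = D.bar y + y
          rw [map_add, D.bar_bar, add_comm]
        · intro hc
          obtain ⟨y, hy⟩ := D.exists_trace hc
          exact ⟨y, show D.bar y + y = c by rw [add_comm, hy]⟩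
      have h1 := f.ker.card_mul_index
      rw [AddSubgroup.index_ker, AddSubgroup.ext hrange, Nat.card_eq_fintype_card (α := F), D.hF, sq] at h1
      exact Nat.mul_self_inj.1 h1
    rw [← hK]
    exact Nat.card_congr (Equiv.subtypeEquivRight fun b => by
      rw [AddMonoidHom.mem_ker]
      show b + D.bar b = 0 ↔ D.bar b + b = 0
      rw [add_comm])
  have e : Pt D ≃ Σ a : F, {b : F // b + D.bar b = D.bar a * a} :=
    { toFun := fun p => ⟨p.a, p.b, p.h⟩
      invFun := fun p => ⟨p.1, p.2.1, p.2.2⟩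
      left_inv := fun p => rfl
      right_inv := fun p => rfl }
  rw [Nat.card_congr e, Nat.card_sigma, Finset.sum_congr rfl fun a _ => key a, Finset.sum_const, Finset.card_univ,
    D.hF, smul_eq_mul]
  ring

theorem card_Ug : Nat.card h.Ug = D.q ^ 3 := by
  rw [← card_Pt (D := D)]
  exact (Nat.card_congr (MonoidHom.ofInjective h.U_inj).toEquiv).symm

theorem card_C : Nat.card h.C = D.q ^ 3 * (D.q + 1) := by
  rw [← card_Pt (D := D), ← D.card_R0, ← Nat.card_prod]
  refine (Nat.card_eq_of_bijective (fun p : Pt D × D.R0 => (⟨h.U p.1 * h.R p.2, h.mem_C.2 ⟨_, _, rfl⟩⟩ : h.C))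
    ⟨fun p p' e => ?_, fun g => ?_⟩).symm
  · obtain ⟨e1, e2⟩ := h.eq_of_form (congrArg Subtype.val e)
    exact Prod.ext e1 e2
  · obtain ⟨a, r, hg⟩ := h.mem_C.1 g.2
    exact ⟨(a, r), Subtype.ext hg.symm⟩

theorem C_le_H : h.C ≤ h.H := by
  have key : ∀ g ∈ h.C, ∀ n ∈ h.Ug, g * n * g⁻¹ ∈ h.Ug := by
    rintro g hg n ⟨b, rfl⟩
    obtain ⟨a, r, rfl⟩ := h.mem_C.1 hg
    refine ⟨a * Pt.sca D (r : Fˣ) b * a⁻¹, ?_⟩
    rw [map_mul, map_mul, map_inv, ← h.conj]
    group
  intro g hg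
  rw [H, Subgroup.mem_normalizer_iff]
  intro n
  refine ⟨key g hg n, fun hn => ?_⟩
  have := key g⁻¹ (inv_mem hg) _ hn
  simpa [mul_assoc] using this

theorem Ug_le_C : h.Ug ≤ h.C := by
  rintro _ ⟨a, rfl⟩; exact h.U_mem_C a

/-- The central involutions. -/
def IsZ (t : G) : Prop := t ≠ 1 ∧ ∃ a : Pt D, a.a = 0 ∧ t = h.U a

theorem IsZ.commute {t : G} (ht : h.IsZ t) {g : G} (hg : g ∈ h.C) : g * t = t * g := by
  obtain ⟨-, a, ha, rfl⟩ := ht
  obtain ⟨b, r, rfl⟩ := h.mem_C.1 hg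
  have e1 : Pt.sca D (r : Fˣ) a = a := by ext <;> simp [ha, D.R0_norm]
  have e2 : b * a = a * b := by ext <;> simp [ha, add_comm]
  rw [mul_assoc, R_mul, e1, ← mul_assoc, ← map_mul, e2, map_mul, mul_assoc]

theorem isZ_x : h.IsZ h.x := ⟨h.x_ne, one' D, rfl, rfl⟩

theorem IsZ.orderOf {t : G} (ht : h.IsZ t) : orderOf t = 2 := by
  haveI : Fact (Nat.Prime 2) := ⟨Nat.prime_two⟩
  obtain ⟨h1, a, ha, rfl⟩ := ht
  refine orderOf_eq_prime ?_ h1
  rw [← map_pow, sq, ← map_one h.U]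
  congr 1
  ext <;> simp [ha, Dat.add_self]

theorem isZ_of_mem_C {t : G} (ht : _root_.orderOf t = 2) (hC : t ∈ h.C) : h.IsZ t := by
  have h2 : t ^ 2 = 1 := ht ▸ pow_orderOf_eq_one t
  obtain ⟨a, rfl⟩ := h.pow_two_mem_Ug hC (k := 1) (by rwa [pow_one])
  refine ⟨fun e => by rw [e, orderOf_one] at ht; omega, a, ?_, rfl⟩
  rw [← map_pow, ← map_one h.U, sq] at h2
  have h3 := congrArg Pt.b (h.U_inj h2)
  rw [Pt.sq_b, Pt.one_b, mul_eq_zero, map_eq_zero, or_self] at h3
  exact h3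

theorem orderOf_x : _root_.orderOf h.x = 2 := h.isZ_x.orderOf

theorem exists_conj_x {t : G} (ht : _root_.orderOf t = 2) : ∃ g, g * h.x * g⁻¹ = t := h.oneClass t ht

theorem cent_IsZ {t : G} (ht : h.IsZ t) : Subgroup.centralizer {t} = h.C := by
  obtain ⟨g, hg⟩ := h.exists_conj_x ht.orderOf
  refine (Subgroup.eq_of_le_of_card_ge (fun y hy => ?_) (le_of_eq ?_)).symm
  · exact Subgroup.mem_centralizer_singleton_iff.2 (IsZ.commute h ht hy)
  · have hm : ∀ y : G, y ∈ h.C ↔ g * y * g⁻¹ ∈ Subgroup.centralizer {t} := by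
      intro y
      rw [C, Subgroup.mem_centralizer_singleton_iff, Subgroup.mem_centralizer_singleton_iff, ← hg]
      constructor
      · intro e
        calc g * y * g⁻¹ * (g * h.x * g⁻¹) = g * (y * h.x) * g⁻¹ := by group
          _ = _ := by rw [e]; group
      · intro e
        calc y * h.x = g⁻¹ * (g * y * g⁻¹ * (g * h.x * g⁻¹)) * g := by group
          _ = _ := by rw [e]; group
    exact (Nat.card_congr ((MulAut.conj g).toEquiv.subtypeEquiv hm)).symm

theorem sylow_eq {P : Subgroup G} (hP : IsPGroup 2 P) (hle : h.Ug ≤ P) : P = h.Ug := by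
  haveI : Fact (Nat.Prime 2) := ⟨Nat.prime_two⟩
  haveI : Nontrivial P := by
    refine ⟨⟨⟨h.x, hle ⟨_, rfl⟩⟩, 1, fun e => h.x_ne (congrArg Subtype.val e)⟩⟩
  have hz : Nontrivial (Subgroup.center P) := hP.center_nontrivial
  obtain ⟨z, hz2⟩ : ∃ z : Subgroup.center P, _root_.orderOf z = 2 := by
    refine exists_prime_orderOf_dvd_card' 2 ?_
    obtain ⟨k, hk⟩ := (hP.to_subgroup (Subgroup.center P)).exists_card_eq
    rw [hk]
    refine dvd_pow_self 2 fun e => ?_
    rw [e, pow_zero] at hk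
    exact (Finite.one_lt_card (α := Subgroup.center P)).ne' hk
  have hz3 : _root_.orderOf ((z : P) : G) = 2 := by
    rw [Subgroup.orderOf_coe, Subgroup.orderOf_coe, hz2]
  have hc : ∀ y : P, (y : G) * ((z : P) : G) = ((z : P) : G) * (y : G) := fun y =>
    congrArg Subtype.val (Subgroup.mem_center_iff.1 z.2 y)
  have hzC : ((z : P) : G) ∈ h.C :=
    Subgroup.mem_centralizer_singleton_iff.2 (hc ⟨h.x, hle ⟨_, rfl⟩⟩).symm
  refine le_antisymm (fun y hy => ?_) hle
  obtain ⟨k, hk⟩ := hP ⟨y, hy⟩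
  refine h.pow_two_mem_Ug (k := k) ?_ (by simpa using congrArg Subtype.val hk)
  rw [← h.cent_IsZ (h.isZ_of_mem_C hz3 hzC), Subgroup.mem_centralizer_singleton_iff]
  exact hc ⟨y, hy⟩

theorem mem_Ug_of_pow {g : G} (hg : g ∈ h.H) {k : ℕ} (hk : g ^ 2 ^ k = 1) : g ∈ h.Ug := by
  haveI : Fact (Nat.Prime 2) := ⟨Nat.prime_two⟩
  have h1 : IsPGroup 2 h.Ug := IsPGroup.of_card (n := 3 * D.n) (by rw [h.card_Ug, D.hn]; ring)
  have h2 : IsPGroup 2 (Subgroup.zpowers g) := by
    obtain ⟨j, -, hj⟩ := (Nat.dvd_prime_pow Nat.prime_two).1 (orderOf_dvd_of_pow_eq_one hk)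
    exact IsPGroup.of_card (n := j) (by rw [Nat.card_zpowers, hj])
  have h3 := IsPGroup.to_sup_of_normal_left' h1 h2 (Subgroup.zpowers_le.2 hg)
  have h4 := h.sylow_eq h3 le_sup_left
  exact h4 ▸ (le_sup_right : Subgroup.zpowers g ≤ _) (Subgroup.mem_zpowers g)

theorem isZ_of_mem_H {t : G} (ht : _root_.orderOf t = 2) (hH : t ∈ h.H) : h.IsZ t :=
  h.isZ_of_mem_C ht (h.Ug_le_C (h.mem_Ug_of_pow hH (k := 1) (by rw [pow_one, ← ht, pow_orderOf_eq_one])))

/-- An element carrying one central involution to another normalises the root group. -/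
theorem mem_H_of_conj {g t : G} (ht : h.IsZ t) (hg : h.IsZ (g * t * g⁻¹)) : g ∈ h.H := by
  have key : ∀ y : G, y ∈ h.C ↔ g * y * g⁻¹ ∈ h.C := by
    intro y
    nth_rewrite 1 [← h.cent_IsZ ht]
    rw [← h.cent_IsZ hg, Subgroup.mem_centralizer_singleton_iff, Subgroup.mem_centralizer_singleton_iff]
    constructor
    · intro e
      calc g * y * g⁻¹ * (g * t * g⁻¹) = g * (y * t) * g⁻¹ := by group
        _ = _ := by rw [e]; group
    · intro e
      calc y * t = g⁻¹ * (g * y * g⁻¹ * (g * t * g⁻¹)) * g := by group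
        _ = _ := by rw [e]; group
  have h4 : ∀ y ∈ h.Ug, y ^ 2 ^ 2 = 1 := by
    rintro _ ⟨a, rfl⟩
    rw [← map_pow, show 2 ^ 2 = 4 from rfl, Pt.pow_four, map_one]
  rw [H, Subgroup.mem_normalizer_iff]
  intro y
  constructor
  · intro hy
    refine h.pow_two_mem_Ug (k := 2) ((key y).1 (h.Ug_le_C hy)) ?_
    rw [conj_pow, h4 y hy, mul_one, mul_inv_cancel]
  · intro hy
    refine h.pow_two_mem_Ug (k := 2) ((key y).2 (h.Ug_le_C hy)) ?_
    have := h4 _ hy
    rwa [conj_pow, conj_eq_one_iff] at this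

theorem H_ne_top : h.H ≠ ⊤ := by
  intro e
  haveI : Fact (Nat.Prime 2) := ⟨Nat.prime_two⟩
  have h1 : IsPGroup 2 h.Ug := IsPGroup.of_card (n := 3 * D.n) (by rw [h.card_Ug, D.hn]; ring)
  obtain ⟨P, hP⟩ := h1.exists_le_sylow
  refine h.notNormal P ?_
  rw [h.sylow_eq P.isPGroup' hP]
  exact Subgroup.normalizer_eq_top_iff.1 e

theorem conj_isZ {g t : G} (hg : g ∈ h.H) (ht : h.IsZ t) : h.IsZ (g * t * g⁻¹) := by
  obtain ⟨a, ha, rfl⟩ := ht.2
  refine h.isZ_of_mem_H ?_ ?_
  · rw [show g * h.U a * g⁻¹ = MulAut.conj g (h.U a) from rfl, MulEquiv.orderOf_eq]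
    exact ht.orderOf
  · exact h.H.mul_mem (h.H.mul_mem hg (h.C_le_H (h.U_mem_C a))) (h.H.inv_mem hg)

theorem conj_C {g y : G} (hg : g ∈ h.H) (hy : y ∈ h.C) : g * y * g⁻¹ ∈ h.C := by
  have h1 := h.conj_isZ hg h.isZ_x
  rw [← h.cent_IsZ h1, Subgroup.mem_centralizer_singleton_iff]
  rw [C, Subgroup.mem_centralizer_singleton_iff] at hy
  calc g * y * g⁻¹ * (g * h.x * g⁻¹) = g * (y * h.x) * g⁻¹ := by group
    _ = _ := by rw [hy]; group

theorem card_IsZ : Nat.card {t : G // h.IsZ t} = D.q - 1 := by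
  classical
  have e : Nat.card {t : G // h.IsZ t} = Nat.card {a : Pt D // a.a = 0 ∧ a ≠ 1} := by
    refine (Nat.card_eq_of_bijective (fun a : {a : Pt D // a.a = 0 ∧ a ≠ 1} =>
      (⟨h.U a.1, fun e => a.2.2 (h.U_inj (e.trans (map_one _).symm)), a.1, a.2.1, rfl⟩ : {t : G // h.IsZ t}))
      ⟨fun a b e => Subtype.ext (h.U_inj (congrArg Subtype.val e)), fun t => ?_⟩).symm
    obtain ⟨a, ha, e⟩ := t.2.2
    exact ⟨⟨a, ha, fun e1 => t.2.1 (by rw [e, e1, map_one])⟩, Subtype.ext e.symm⟩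
  rw [e]
  let f : Pt D →* Multiplicative F :=
    { toFun := fun a => Multiplicative.ofAdd a.a
      map_one' := rfl
      map_mul' := fun a b => rfl }
  have hf : f.ker.index = D.q ^ 2 := by
    rw [Subgroup.index_ker]
    have hs : Function.Surjective f := fun c => by
      obtain ⟨t, ht⟩ := D.exists_trace (D.bar_norm c.toAdd)
      exact ⟨⟨c.toAdd, t, ht⟩, rfl⟩
    rw [MonoidHom.range_eq_top.2 hs, Subgroup.card_top, Nat.card_eq_fintype_card, Fintype.card_multiplicative, D.hF]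
  have h1 := f.ker.card_mul_index
  rw [hf, card_Pt, pow_succ' D.q 2] at h1
  have h2 : Nat.card f.ker = D.q := Nat.eq_of_mul_eq_mul_right (pow_pos (by have := D.hq; omega) 2) h1
  have e2 : Nat.card {a : Pt D // a.a = 0 ∧ a ≠ 1} = Nat.card {k : f.ker // k ≠ 1} :=
    Nat.card_congr
      { toFun := fun a => ⟨⟨a.1, a.2.1⟩, fun e => a.2.2 (congrArg Subtype.val e)⟩
        invFun := fun k => ⟨k.1.1, k.1.2, fun e => k.2 (Subtype.ext e)⟩
        left_inv := fun a => rfl
        right_inv := fun k => rfl }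
  haveI : Fintype f.ker := Fintype.ofFinite _
  rw [e2, ← h2, Nat.card_eq_fintype_card, Nat.card_eq_fintype_card, Fintype.card_subtype_compl,
    Fintype.card_subtype_eq]

theorem card_H : Nat.card h.H = (D.q - 1) * (D.q ^ 3 * (D.q + 1)) := by
  classical
  haveI : Fintype {t : G // h.IsZ t} := Fintype.ofFinite _
  have key : ∀ t : {t : G // h.IsZ t}, Nat.card {g : h.H // (g : G) * h.x * (g : G)⁻¹ = t} = Nat.card h.C := by
    intro t
    obtain ⟨g0, hg0⟩ := h.exists_conj_x t.2.orderOf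
    have hg0H : g0 ∈ h.H := h.mem_H_of_conj h.isZ_x (hg0 ▸ t.2)
    have f1 : ∀ c : h.C, g0 * (c : G) * h.x * (g0 * (c : G))⁻¹ = t := by
      intro c
      rw [mul_assoc g0 (c : G), Subgroup.mem_centralizer_singleton_iff.1 c.2, ← hg0]
      group
    have f2 : ∀ g : G, g * h.x * g⁻¹ = t → g0⁻¹ * g ∈ h.C := by
      intro g hg
      rw [C, Subgroup.mem_centralizer_singleton_iff]
      calc g0⁻¹ * g * h.x = g0⁻¹ * (g * h.x * g⁻¹) * g := by group
        _ = _ := by rw [hg, ← hg0]; group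
    exact (Nat.card_congr
      { toFun := fun c => ⟨⟨g0 * c.1, h.H.mul_mem hg0H (h.C_le_H c.2)⟩, f1 c⟩
        invFun := fun g => ⟨g0⁻¹ * g.1.1, f2 g.1.1 g.2⟩
        left_inv := fun c => Subtype.ext (by simp)
        right_inv := fun g => Subtype.ext (Subtype.ext (by simp)) }).symm
  rw [Nat.card_congr (Equiv.sigmaFiberEquiv fun g : h.H =>
      (⟨(g : G) * h.x * (g : G)⁻¹, h.conj_isZ g.2 h.isZ_x⟩ : {t : G // h.IsZ t})).symm, Nat.card_sigma,
    Finset.sum_congr rfl fun t _ => (Nat.card_congr (Equiv.subtypeEquivRight fun g => Subtype.ext_iff)).trans (key t),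
    Finset.sum_const, Finset.card_univ, ← Nat.card_eq_fintype_card, h.card_IsZ, smul_eq_mul, h.card_C]

end Hyp

end

end Cfsg.Lib.UThreeEven
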