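import Mathlib
import Cfsg.Prelude.Def_LieClassical
import Cfsg.Agent.UnitaryThreeEven.Setting

/-!
# The unitary model

The isometry group of the form `u₀ v̄₂ + u₁ v̄₁ + u₂ v̄₀` modulo its centre has the hypothesis, and it is conjugate to
the general unitary group of the standard form.
-/

set_option autoImplicit false
set_option linter.unusedSectionVars false
set_option linter.unusedSimpArgs false

namespace Cfsg.Lib.UThreeEven.Model

universe u

open Matrix

noncomputable section

variable {F : Type u} [Field F] [Fintype F] [CharP F 2] (D : Dat F)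

theorem two_zero : (2 : F) = 0 := CharTwo.two_eq_zero

/-- The form. -/
def bf (u v : Fin 3 → F) : F := u 0 * D.bar (v 2) + u 1 * D.bar (v 1) + u 2 * D.bar (v 0)

theorem bf_mulVec (A : Matrix (Fin 3) (Fin 3) F) (u v : Fin 3 → F) :
    bf D (A *ᵥ u) (A *ᵥ v) = ∑ i, ∑ j, u i * D.bar (v j) * bf D (fun k => A k i) fun k => A k j := by
  simp only [bf, Matrix.mulVec, dotProduct, Fin.sum_univ_three, map_add, map_mul]
  ring

theorem bar_bf (u v : Fin 3 → F) : D.bar (bf D u v) = bf D v u := by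
  simp only [bf, map_add, map_mul, D.bar_bar]
  ring

theorem bf_single (i j : Fin 3) : bf D (Pi.single i 1) (Pi.single j 1) =
    (!![0, 0, 1; 0, 1, 0; 1, 0, 0] : Matrix (Fin 3) (Fin 3) F) i j := by
  fin_cases i <;> fin_cases j <;> simp [bf]

/-- The isometry group. -/
def GJ : Subgroup (GL (Fin 3) F) where
  carrier := {g | ∀ u v, bf D ((g : Matrix (Fin 3) (Fin 3) F) *ᵥ u) ((g : Matrix (Fin 3) (Fin 3) F) *ᵥ v) = bf D u v}
  mul_mem' {a b} ha hb u v := by rw [Units.val_mul, ← Matrix.mulVec_mulVec, ← Matrix.mulVec_mulVec, ha, hb]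
  one_mem' u v := by rw [Units.val_one, Matrix.one_mulVec, Matrix.one_mulVec]
  inv_mem' {a} ha u v := by
    have := ha (((a⁻¹ : GL (Fin 3) F) : Matrix (Fin 3) (Fin 3) F) *ᵥ u)
      (((a⁻¹ : GL (Fin 3) F) : Matrix (Fin 3) (Fin 3) F) *ᵥ v)
    rwa [Matrix.mulVec_mulVec, Matrix.mulVec_mulVec, ← Units.val_mul, mul_inv_cancel, Units.val_one,
      Matrix.one_mulVec, Matrix.one_mulVec, eq_comm] at this

theorem mem_GJ {g : GL (Fin 3) F} : g ∈ GJ D ↔ ∀ i j, bf D (fun k => (g : Matrix (Fin 3) (Fin 3) F) k i)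
    (fun k => (g : Matrix (Fin 3) (Fin 3) F) k j) = (!![0, 0, 1; 0, 1, 0; 1, 0, 0] : Matrix (Fin 3) (Fin 3) F) i j := by
  constructor
  · intro hg i j
    have := hg (Pi.single i 1) (Pi.single j 1)
    rw [bf_single, Matrix.mulVec_single_one, Matrix.mulVec_single_one] at this
    exact this
  · intro h u v
    rw [bf_mulVec]
    simp only [h, Fin.sum_univ_three]
    simp [bf]

variable {D}

theorem gj_ext {A B : GJ D} (h : ∀ i j, ((A : GL (Fin 3) F) : Matrix (Fin 3) (Fin 3) F) i j =
    ((B : GL (Fin 3) F) : Matrix (Fin 3) (Fin 3) F) i j) : A = B :=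
  Subtype.ext (Units.ext (Matrix.ext h))

/-- The matrix of an element. -/
abbrev mat (A : GJ D) : Matrix (Fin 3) (Fin 3) F := ((A : GL (Fin 3) F) : Matrix (Fin 3) (Fin 3) F)

theorem mat_mul (A B : GJ D) : mat (A * B) = mat A * mat B := rfl

theorem mat_one : mat (1 : GJ D) = 1 := rfl

theorem col_form (A : GJ D) (i j : Fin 3) : bf D (fun k => mat A k i) (fun k => mat A k j) =
    (!![0, 0, 1; 0, 1, 0; 1, 0, 0] : Matrix (Fin 3) (Fin 3) F) i j := (mem_GJ D).1 A.2 i j

variable (D)

/-- An element from a matrix whose columns have the right products. -/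
def ofMat (M : Matrix (Fin 3) (Fin 3) F)
    (h : ∀ i j, bf D (fun k => M k i) (fun k => M k j) = (!![0, 0, 1; 0, 1, 0; 1, 0, 0] : Matrix (Fin 3) (Fin 3) F) i j) :
    GJ D :=
  ⟨Matrix.GeneralLinearGroup.mkOfDetNeZero M (by
    intro h0
    have e : Mᵀ * !![0, 0, 1; 0, 1, 0; 1, 0, 0] * M.map D.bar = !![0, 0, 1; 0, 1, 0; 1, 0, 0] := by
      ext i j
      rw [← h i j]
      simp [Matrix.mul_apply, Matrix.vecMul, dotProduct, Fin.sum_univ_three, bf]
      ring
    have := congrArg Matrix.det e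
    rw [Matrix.det_mul, Matrix.det_mul, Matrix.det_transpose, h0, zero_mul, zero_mul] at this
    simp [Matrix.det_fin_three] at this), (mem_GJ D).2 h⟩

theorem mat_ofMat (M : Matrix (Fin 3) (Fin 3) F) (h) : mat (ofMat D M h) = M := rfl

/-- The root group. -/
def mU : Pt D →* GJ D where
  toFun x := ofMat D !![1, D.bar x.a, x.b; 0, 1, x.a; 0, 0, 1] (by
    intro i j
    fin_cases i <;> fin_cases j <;> simp [bf, D.bar_bar, Dat.add_self] <;>
      linear_combination x.h + (D.bar x.a * x.a) * (two_zero (F := F)))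
  map_one' := gj_ext fun i j => by
    fin_cases i <;> fin_cases j <;> simp [mat_ofMat, ofMat]
  map_mul' x y := gj_ext fun i j => by
    fin_cases i <;> fin_cases j <;>
      simp [ofMat, Matrix.mul_apply, Matrix.vecMul, dotProduct, Fin.sum_univ_three, Matrix.GeneralLinearGroup.mkOfDetNeZero] <;> ring

theorem mat_mU (x : Pt D) : mat (mU D x) = !![1, D.bar x.a, x.b; 0, 1, x.a; 0, 0, 1] := rfl

/-- The norm one group. -/
def mR : D.R0 →* GJ D where
  toFun r := ofMat D !![1, 0, 0; 0, ((r : Fˣ) : F), 0; 0, 0, 1] (by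
    intro i j
    fin_cases i <;> fin_cases j <;> simp [bf] <;> linear_combination D.R0_norm r)
  map_one' := gj_ext fun i j => by
    fin_cases i <;> fin_cases j <;> simp [ofMat]
  map_mul' r s := gj_ext fun i j => by
    fin_cases i <;> fin_cases j <;>
      simp [ofMat, Matrix.mul_apply, Matrix.vecMul, dotProduct, Fin.sum_univ_three, Matrix.GeneralLinearGroup.mkOfDetNeZero]

theorem mat_mR (r : D.R0) : mat (mR D r) = !![1, 0, 0; 0, ((r : Fˣ) : F), 0; 0, 0, 1] := rfl

/-- The scalars. -/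
def mS : D.R0 →* GJ D where
  toFun r := ofMat D !![((r : Fˣ) : F), 0, 0; 0, ((r : Fˣ) : F), 0; 0, 0, ((r : Fˣ) : F)] (by
    intro i j
    fin_cases i <;> fin_cases j <;> simp [bf] <;> linear_combination D.R0_norm r)
  map_one' := gj_ext fun i j => by
    fin_cases i <;> fin_cases j <;> simp [ofMat]
  map_mul' r s := gj_ext fun i j => by
    fin_cases i <;> fin_cases j <;>
      simp [ofMat, Matrix.mul_apply, Matrix.vecMul, dotProduct, Fin.sum_univ_three, Matrix.GeneralLinearGroup.mkOfDetNeZero]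

theorem mat_mS (r : D.R0) : mat (mS D r) =
    !![((r : Fˣ) : F), 0, 0; 0, ((r : Fˣ) : F), 0; 0, 0, ((r : Fˣ) : F)] := rfl

theorem mS_central (r : D.R0) : mS D r ∈ Subgroup.center (GJ D) := by
  rw [Subgroup.mem_center_iff]
  intro g
  refine gj_ext fun i j => ?_
  show mat (g * mS D r) i j = mat (mS D r * g) i j
  rw [mat_mul, mat_mul, mat_mS]
  fin_cases i <;> fin_cases j <;> simp [Matrix.mul_apply, Matrix.vecMul, dotProduct, Fin.sum_univ_three, mul_comm]

/-- The reflection exchanging the two isotropic basis vectors. -/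
def mW : GJ D := ofMat D !![0, 0, 1; 0, 1, 0; 1, 0, 0] (by
  intro i j
  fin_cases i <;> fin_cases j <;> simp [bf])

/-- The torus element with fixed parameter. -/
def mT (s : F) (hs : D.bar s = s) (hs0 : s ≠ 0) : GJ D := ofMat D !![s, 0, 0; 0, 1, 0; 0, 0, s⁻¹] (by
  intro i j
  fin_cases i <;> fin_cases j <;> simp [bf, hs, hs0, map_inv₀])

variable {D}

/-- Elements fixing the first isotropic vector with equal outer diagonal entries. -/
theorem fix_first (A : GJ D) (h10 : mat A 1 0 = 0) (h20 : mat A 2 0 = 0) (h22 : mat A 2 2 = mat A 0 0) :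
    ∃ (α : D.R0) (x : Pt D) (r : D.R0), ((α : Fˣ) : F) = mat A 0 0 ∧ A = mS D α * (mU D x * mR D r) := by
  have e02 : mat A 0 0 * D.bar (mat A 2 2) = 1 := by simpa [bf, h10, h20] using col_form A 0 2
  rw [h22] at e02
  have ha0 : mat A 0 0 ≠ 0 := left_ne_zero_of_mul_eq_one e02
  have e01 : mat A 2 1 = 0 := by simpa [bf, h10, h20, ha0] using col_form A 0 1
  have e11 : mat A 1 1 * D.bar (mat A 1 1) = 1 := by simpa [bf, e01] using col_form A 1 1
  have e12 : mat A 0 1 * D.bar (mat A 0 0) + mat A 1 1 * D.bar (mat A 1 2) = 0 := by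
    simpa [bf, e01, h22] using col_form A 1 2
  have e22 : mat A 0 2 * D.bar (mat A 0 0) + mat A 1 2 * D.bar (mat A 1 2) + mat A 0 0 * D.bar (mat A 0 2) = 0 := by
    simpa [bf, h22] using col_form A 2 2
  have hm0 : mat A 1 1 ≠ 0 := left_ne_zero_of_mul_eq_one e11
  have hba : D.bar (mat A 0 0) = (mat A 0 0)⁻¹ := eq_inv_of_mul_eq_one_right e02
  let α : D.R0 := ⟨Units.mk0 _ ha0, D.mem_R0.2 (by rw [Units.val_mk0, mul_comm]; exact e02)⟩
  let r : D.R0 := ⟨Units.mk0 (mat A 1 1 / mat A 0 0) (div_ne_zero hm0 ha0), D.mem_R0.2 (by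
    rw [Units.val_mk0, map_div₀, hba]
    field_simp
    linear_combination e11)⟩
  let x : Pt D := ⟨mat A 1 2 / mat A 0 0, mat A 0 2 / mat A 0 0, by
    rw [map_div₀, map_div₀, hba]
    rw [hba] at e22
    field_simp at e22 ⊢
    linear_combination e22 - (mat A 0 0 * (mat A 1 2 * D.bar (mat A 1 2))) * (two_zero (F := F))⟩
  refine ⟨α, x, r, rfl, gj_ext fun i j => ?_⟩
  show mat A i j = mat (mS D α * (mU D x * mR D r)) i j
  rw [mat_mul, mat_mul, mat_mS, mat_mU, mat_mR]
  rw [hba] at e12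
  fin_cases i <;> fin_cases j <;> simp [Matrix.mul_apply, Matrix.vecMul, dotProduct, Fin.sum_univ_three, α, x, r, h10, h20, e01, h22, ha0,
    map_div₀, hba]
  all_goals field_simp at e12 ⊢
  all_goals linear_combination e12 - (mat A 0 0 * mat A 1 1 * D.bar (mat A 1 2)) * (two_zero (F := F))

theorem commute_root {A : GJ D} {c : D.R0} (h : A * mU D (one' D) = mS D c * (mU D (one' D) * A)) :
    mat A 1 0 = 0 ∧ mat A 2 0 = 0 ∧ mat A 2 2 = mat A 0 0 := by
  have e := fun i j => congrArg (fun B : GJ D => mat B i j) h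
  have e00 := e 0 0
  have e02 := e 0 2
  have e10 := e 1 0
  have e12 := e 1 2
  have e20 := e 2 0
  simp [mat_mul, mat_mS, mat_mU, one', Pt.zc, Matrix.mul_apply, Matrix.vecMul, dotProduct, Fin.sum_univ_three] at e00 e02 e10 e12 e20
  have hc : ((c : Fˣ) : F) = 1 := by
    by_contra hne
    have k : ∀ z : F, z = ((c : Fˣ) : F) * z → z = 0 := fun z hz => by
      by_contra hz0
      exact hne (mul_right_cancel₀ hz0 (hz.symm.trans (one_mul z).symm))
    have z20 := k _ e20
    have z10 := k _ e10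
    rw [z20, add_zero] at e00
    have z00 := k _ e00
    have hinv : (mat A⁻¹ * mat A) 0 0 = (1 : Matrix (Fin 3) (Fin 3) F) 0 0 := by
      rw [← mat_mul, inv_mul_cancel, mat_one]
    rw [Matrix.mul_apply, Fin.sum_univ_three, z00, z10, z20, Matrix.one_apply_eq] at hinv
    simp at hinv
  simp [hc] at e00 e02 e12
  refine ⟨?_, ?_, ?_⟩
  · linear_combination e12
  · linear_combination -e00 + mat A 2 0 * (two_zero (F := F))
  · linear_combination -e02

theorem mR_conj (r : D.R0) (x : Pt D) : mR D r * mU D x = mU D (Pt.sca D (r : Fˣ) x) * mR D r := by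
  refine gj_ext fun i j => ?_
  show mat (mR D r * mU D x) i j = mat (mU D (Pt.sca D (r : Fˣ) x) * mR D r) i j
  rw [mat_mul, mat_mul, mat_mR, mat_mU, mat_mU]
  fin_cases i <;> fin_cases j <;> simp [Matrix.mul_apply, Matrix.vecMul, dotProduct, Fin.sum_univ_three, D.R0_bar, D.R0_norm]
  all_goals field_simp

theorem center_scalar {z : GJ D} (hz : z ∈ Subgroup.center (GJ D)) : ∃ α, z = mS D α := by
  have hc := Subgroup.mem_center_iff.1 hz
  obtain ⟨h1, h2, h3⟩ := commute_root (A := z) (c := 1) (by rw [map_one, one_mul]; exact (hc _).symm)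
  obtain ⟨α, x, r, -, rfl⟩ := fix_first z h1 h2 h3
  refine ⟨α, ?_⟩
  have hc' : ∀ g, g * (mU D x * mR D r) = mU D x * mR D r * g := fun g => by
    have := hc g
    rw [← mul_assoc, Subgroup.mem_center_iff.1 (mS_central D α) g, mul_assoc, mul_assoc] at this
    exact mul_left_cancel this
  have key : ∀ y : Pt D, mU D (y * x) * mR D r = mU D (x * Pt.sca D (r : Fˣ) y) * mR D r := fun y => by
    rw [map_mul, mul_assoc, hc', mul_assoc, mR_conj, ← mul_assoc, ← map_mul]
  have key2 : ∀ y : Pt D, y * x = x * Pt.sca D (r : Fˣ) y := fun y => by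
    have e := fun i j => congrArg (fun B : GJ D => mat B i j) (mul_right_cancel (key y))
    refine Pt.ext ?_ ?_
    · simpa [mat_mU, -map_mul] using e 1 2
    · simpa [mat_mU, -map_mul] using e 0 2
  obtain ⟨t, ht⟩ := D.exists_trace_one
  let y1 : Pt D := ⟨1, t, by rw [ht, map_one, one_mul]⟩
  obtain ⟨s, hs⟩ := D.exists_moved
  obtain ⟨t', ht'⟩ := D.exists_trace (D.bar_norm s)
  let y2 : Pt D := ⟨s, t', ht'⟩
  have hr : r = 1 := by
    have := congrArg Pt.a (key2 y1)
    simp [y1] at this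
    exact Subtype.ext (Units.ext (by
      rw [OneMemClass.coe_one, Units.val_one]
      linear_combination -this))
  subst hr
  have b1 := congrArg Pt.b (key2 y1)
  have b2 := congrArg Pt.b (key2 y2)
  simp [y1, y2] at b1 b2
  have hxa : x.a = 0 := by
    by_contra h0
    have e1 : D.bar x.a = x.a := by linear_combination -b1
    rw [e1] at b2
    exact hs (mul_right_cancel₀ h0 (by linear_combination b2))
  have hxb : x.b = 0 := by
    have := congrArg (fun B : GJ D => mat B 0 0) (hc' (mW D))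
    simpa [mat_mul, mat_mU, mat_mR, mW, mat_ofMat, Matrix.mul_apply, Matrix.vecMul, dotProduct, Fin.sum_univ_three, hxa] using this.symm
  rw [show x = 1 from Pt.eq_one_of_b hxb, map_one, map_one, mul_one, mul_one]

/-- Every nonzero isotropic vector starts a frame. -/
theorem exists_frame {e : Fin 3 → F} (he0 : e ≠ 0) (he : bf D e e = 0) : ∃ P : GJ D, ∀ k, mat P k 0 = e k := by
  obtain ⟨v, hv⟩ : ∃ v, bf D e v = 1 := by
    by_cases h0 : e 0 = 0
    · by_cases h1 : e 1 = 0
      · have h2 : e 2 ≠ 0 := fun h2 => he0 (by ext k; fin_cases k <;> assumption)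
        exact ⟨![D.bar (e 2)⁻¹, 0, 0], by simp [bf, D.bar_bar, h2]⟩
      · exact ⟨![0, D.bar (e 1)⁻¹, 0], by simp [bf, D.bar_bar, h1]⟩
    · exact ⟨![0, 0, D.bar (e 0)⁻¹], by simp [bf, D.bar_bar, h0]⟩
  obtain ⟨t, ht⟩ := D.exists_trace (bar_bf D v v)
  set f : Fin 3 → F := fun k => v k + t * e k with hf
  have hef : bf D e f = 1 := by
    simp only [bf, hf, map_add, map_mul] at *
    linear_combination hv + D.bar t * he
  have hfe : bf D f e = 1 := by rw [← bar_bf, hef, map_one]
  have hff : bf D f f = 0 := by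
    have hve : bf D v e = 1 := by rw [← bar_bf, hv, map_one]
    simp only [bf, hf, map_add, map_mul] at *
    linear_combination t * hv + D.bar t * hve + (t * D.bar t) * he + ht +
      (v 0 * D.bar (v 2) + v 1 * D.bar (v 1) + v 2 * D.bar (v 0)) * (two_zero (F := F))
  set a : Fin 3 → F := ![D.bar (e 2), D.bar (e 1), D.bar (e 0)] with ha
  set b : Fin 3 → F := ![D.bar (f 2), D.bar (f 1), D.bar (f 0)] with hb
  set w : Fin 3 → F := ![a 1 * b 2 - a 2 * b 1, a 2 * b 0 - a 0 * b 2, a 0 * b 1 - a 1 * b 0] with hw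
  have hwe : bf D w e = 0 := by simp [bf, hw, ha, hb]; ring
  have hwf : bf D w f = 0 := by simp [bf, hw, ha, hb]; ring
  have hew : bf D e w = 0 := by rw [← bar_bf, hwe, map_zero]
  have hfw : bf D f w = 0 := by rw [← bar_bf, hwf, map_zero]
  have hww : bf D w w = 1 := by
    have : bf D w w = bf D e f * bf D f e - bf D e e * bf D f f := by
      simp [bf, hw, ha, hb, D.bar_bar]; ring
    rw [this, hef, hfe, he, zero_mul, sub_zero, one_mul]
  refine ⟨ofMat D !![e 0, w 0, f 0; e 1, w 1, f 1; e 2, w 2, f 2] ?_, fun k => ?_⟩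
  · have c0 : (fun k => (!![e 0, w 0, f 0; e 1, w 1, f 1; e 2, w 2, f 2] : Matrix (Fin 3) (Fin 3) F) k 0) = e := by
      ext k; fin_cases k <;> rfl
    have c1 : (fun k => (!![e 0, w 0, f 0; e 1, w 1, f 1; e 2, w 2, f 2] : Matrix (Fin 3) (Fin 3) F) k 1) = w := by
      ext k; fin_cases k <;> rfl
    have c2 : (fun k => (!![e 0, w 0, f 0; e 1, w 1, f 1; e 2, w 2, f 2] : Matrix (Fin 3) (Fin 3) F) k 2) = f := by
      ext k; fin_cases k <;> rfl
    intro i j
    fin_cases i <;> fin_cases j <;>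
      simp only [Fin.zero_eta, Fin.mk_one, Fin.reduceFinMk, c0, c1, c2, he, hef, hfe, hff, hwe, hwf, hew, hfw, hww] <;>
      rfl
  · rw [mat_ofMat]; fin_cases k <;> rfl

variable (D)

/-- The quotient by the centre. -/
abbrev PJ : Type u := GJ D ⧸ Subgroup.center (GJ D)

theorem mk_eq {g g' : GJ D} : ((g : PJ D) = g') ↔ ∃ α, g' = mS D α * g := by
  rw [QuotientGroup.eq]
  constructor
  · intro h
    obtain ⟨α, hα⟩ := center_scalar h
    refine ⟨α, ?_⟩
    rw [← Subgroup.mem_center_iff.1 (mS_central D α) g, ← hα, mul_inv_cancel_left]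
  · rintro ⟨α, rfl⟩
    rw [← Subgroup.mem_center_iff.1 (mS_central D α) g, inv_mul_cancel_left]
    exact mS_central D α

theorem mk_mS (α : D.R0) : ((mS D α : GJ D) : PJ D) = 1 := (QuotientGroup.eq_one_iff _).2 (mS_central D α)

instance : Finite (GL (Fin 3) F) := Finite.of_injective (fun g => (g : Matrix (Fin 3) (Fin 3) F)) Units.val_injective

/-- The hypothesis for the model. -/
theorem exists_hyp : Nonempty (Hyp D (PJ D)) := by
  have hUinj : Function.Injective ((QuotientGroup.mk' (Subgroup.center (GJ D))).comp (mU D)) := by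
    rw [injective_iff_map_eq_one]
    intro x hx
    obtain ⟨α, hα⟩ := center_scalar ((QuotientGroup.eq_one_iff _).1 hx)
    have a1 := congrArg (fun B : GJ D => mat B 1 2) hα
    have a2 := congrArg (fun B : GJ D => mat B 0 2) hα
    simp [mat_mU, mat_mS] at a1 a2
    exact Pt.eq_one_of_b a2
  have hRinj : Function.Injective ((QuotientGroup.mk' (Subgroup.center (GJ D))).comp (mR D)) := by
    rw [injective_iff_map_eq_one]
    intro r hr
    obtain ⟨α, hα⟩ := center_scalar ((QuotientGroup.eq_one_iff _).1 hr)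
    have a1 := congrArg (fun B : GJ D => mat B 1 1) hα
    have a2 := congrArg (fun B : GJ D => mat B 0 0) hα
    simp [mat_mR, mat_mS] at a1 a2
    exact Subtype.ext (Units.ext (by rw [a1, ← a2]; rfl))
  refine ⟨⟨_, _, hUinj, hRinj, fun r x => ?_, fun g => ?_, fun s hs => ?_, fun P hP => ?_⟩⟩
  · show ((mR D r : GJ D) : PJ D) * (mU D x : GJ D) * ((mR D r : GJ D) : PJ D)⁻¹ =
      ((mU D (Pt.sca D (r : Fˣ) x) : GJ D) : PJ D)
    rw [← QuotientGroup.mk_mul, mR_conj, QuotientGroup.mk_mul, mul_inv_cancel_right]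
  · induction g using QuotientGroup.induction_on with
    | H g =>
      show ((g : GJ D) : PJ D) * (mU D (one' D) : GJ D) = (mU D (one' D) : GJ D) * (g : GJ D) ↔
        ∃ a r, ((g : GJ D) : PJ D) = (mU D a : GJ D) * (mR D r : GJ D)
      constructor
      · intro e
        rw [← QuotientGroup.mk_mul, ← QuotientGroup.mk_mul, eq_comm, mk_eq] at e
        obtain ⟨c, hc⟩ := e
        obtain ⟨h1, h2, h3⟩ := commute_root hc
        obtain ⟨α, x, r, -, rfl⟩ := fix_first g h1 h2 h3
        exact ⟨x, r, by rw [QuotientGroup.mk_mul, mk_mS, one_mul, QuotientGroup.mk_mul]⟩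
      · rintro ⟨a, r, e⟩
        rw [e, ← QuotientGroup.mk_mul, ← QuotientGroup.mk_mul, ← QuotientGroup.mk_mul]
        congr 1
        rw [mul_assoc, mR_conj, ← mul_assoc, ← map_mul, ← mul_assoc, ← map_mul]
        congr 2
        ext <;> simp [one', Pt.zc, D.R0_norm, add_comm]
  · induction s using QuotientGroup.induction_on with
    | H g =>
      have h2 : ((g * g : GJ D) : PJ D) = 1 := by
        have := pow_orderOf_eq_one ((g : GJ D) : PJ D)
        rwa [hs, sq, ← QuotientGroup.mk_mul] at this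
      obtain ⟨c, hc⟩ := center_scalar ((QuotientGroup.eq_one_iff _).1 h2)
      obtain ⟨d, hd⟩ : ∃ d : F, d ^ 2 = ((c : Fˣ) : F) :=
        (PerfectRing.bijective_frobenius (R := F) (p := 2)).surjective _
      have hd0 : d ≠ 0 := fun e => (c : Fˣ).ne_zero (by rw [← hd, e, zero_pow two_ne_zero])
      have hdn : D.bar d * d = 1 := by
        refine CharTwo.add_eq_zero.1 (pow_eq_zero_iff two_ne_zero |>.1 (?_ : (D.bar d * d + 1) ^ 2 = 0))
        rw [CharTwo.add_sq, mul_pow, ← map_pow, hd, D.R0_norm, one_pow, Dat.add_self]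
      set δ : D.R0 := ⟨Units.mk0 d hd0, D.mem_R0.2 hdn⟩ with hδ
      set g' := (mS D δ)⁻¹ * g with hg'
      have hδc : δ * δ = c := Subtype.ext (Units.ext (by
        show d * d = _
        rw [← sq, hd]))
      have hg2 : g' * g' = 1 := by
        rw [hg']
        calc (mS D δ)⁻¹ * g * ((mS D δ)⁻¹ * g) = (mS D δ)⁻¹ * (g * (mS D δ)⁻¹) * g := by group
          _ = (mS D δ)⁻¹ * ((mS D δ)⁻¹ * g) * g := by
            rw [Subgroup.mem_center_iff.1 (inv_mem (mS_central D δ)) g]
          _ = (mS D δ * mS D δ)⁻¹ * (g * g) := by group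
          _ = 1 := by rw [← map_mul, hδc, hc, inv_mul_cancel]
      have hgg : ((g' : GJ D) : PJ D) = (g : GJ D) := by
        rw [hg', QuotientGroup.mk_mul, QuotientGroup.mk_inv, mk_mS, inv_one, one_mul]
      have hg1 : g' ≠ 1 := fun e => by
        rw [e, QuotientGroup.mk_one] at hgg
        rw [← hgg, orderOf_one] at hs
        omega
      obtain ⟨j, hj⟩ : ∃ j, (fun k => mat g' k j + (1 : Matrix (Fin 3) (Fin 3) F) k j) ≠ (0 : Fin 3 → F) := by
        by_contra! hh
        exact hg1 (gj_ext fun k j => CharTwo.add_eq_zero.1 (congrFun (hh j) k))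
      set u : Fin 3 → F := Pi.single j 1 with hu
      set e : Fin 3 → F := mat g' *ᵥ u + u with he
      have he0 : e ≠ 0 := fun e0 => hj (funext fun k => by
        have := congrFun e0 k
        rw [he, hu, Pi.add_apply, Matrix.mulVec_single_one] at this
        simpa [Matrix.one_apply, Pi.single_apply] using this)
      have hinv : mat g' *ᵥ (mat g' *ᵥ u) = u := by
        rw [Matrix.mulVec_mulVec, ← mat_mul, hg2, mat_one, Matrix.one_mulVec]
      have hge : mat g' *ᵥ e = e := by rw [he, Matrix.mulVec_add, hinv, add_comm]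
      have hee : bf D e e = 0 := by
        have k1 := g'.2 u u
        have k2 := g'.2 (mat g' *ᵥ u) u
        rw [show ((g' : GL (Fin 3) F) : Matrix (Fin 3) (Fin 3) F) = mat g' from rfl, hinv] at k2
        rw [show ((g' : GL (Fin 3) F) : Matrix (Fin 3) (Fin 3) F) = mat g' from rfl] at k1
        simp only [bf, he, Pi.add_apply, map_add] at k1 k2 ⊢
        linear_combination k1 - k2 + (u 0 * D.bar (u 2) + u 1 * D.bar (u 1) + u 2 * D.bar (u 0) +
          (u 0 * D.bar ((mat g' *ᵥ u) 2) + u 1 * D.bar ((mat g' *ᵥ u) 1) + u 2 * D.bar ((mat g' *ᵥ u) 0))) *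
          (two_zero (F := F))
      obtain ⟨P, hP⟩ := exists_frame he0 hee
      set M := P⁻¹ * g' * P with hM
      have hcol : ∀ k, mat M k 0 = (1 : Matrix (Fin 3) (Fin 3) F) k 0 := by
        intro k
        have hgP : ∀ l, (mat g' * mat P) l 0 = mat P l 0 := fun l => by
          rw [hP l, ← congrFun hge l]
          simp [Matrix.mul_apply, Matrix.mulVec, dotProduct, hP]
        rw [hM, mul_assoc, mat_mul, mat_mul, Matrix.mul_apply, Finset.sum_congr rfl fun l _ => by rw [hgP l],
          ← Matrix.mul_apply, ← mat_mul, inv_mul_cancel, mat_one]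
      have h10 : mat M 1 0 = 0 := by rw [hcol]; rfl
      have h20 : mat M 2 0 = 0 := by rw [hcol]; rfl
      have h00 : mat M 0 0 = 1 := by rw [hcol]; rfl
      have h22 : mat M 2 2 = mat M 0 0 := by
        have := col_form M 0 2
        simp [bf, h10, h20, h00] at this
        rw [h00, ← D.bar_bar (mat M 2 2), this, map_one]
      obtain ⟨α, x, r, hα, hMx⟩ := fix_first M h10 h20 h22
      have hα1 : α = 1 := Subtype.ext (Units.ext (hα.trans h00))
      rw [hα1, map_one, one_mul] at hMx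
      have hM2 : M * M = 1 := by
        rw [hM]
        calc P⁻¹ * g' * P * (P⁻¹ * g' * P) = P⁻¹ * (g' * g') * P := by group
          _ = 1 := by rw [hg2, mul_one, inv_mul_cancel]
      rw [hMx, mul_assoc, ← mul_assoc (mR D r), mR_conj, mul_assoc, ← mul_assoc (mU D x), ← map_mul, ← map_mul] at hM2
      have m11 := congrArg (fun B : GJ D => mat B 1 1) hM2
      have m12 := congrArg (fun B : GJ D => mat B 1 2) hM2
      have m02 := congrArg (fun B : GJ D => mat B 0 2) hM2
      simp [mat_mul, mat_mU, mat_mR, mat_one, Matrix.mul_apply, Matrix.vecMul, dotProduct, Fin.sum_univ_three] at m11 m12 m02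
      have hr1 : r = 1 := by
        refine Subtype.ext (Units.ext ?_)
        show ((r : Fˣ) : F) = 1
        exact CharTwo.add_eq_zero.1 (pow_eq_zero_iff two_ne_zero |>.1
          (by rw [CharTwo.add_sq, sq, m11, one_pow, Dat.add_self] : (((r : Fˣ) : F) + 1) ^ 2 = 0))
      subst hr1
      rw [map_one, mul_one] at hMx
      simp [Dat.add_self] at m02
      have hxa : x.a = 0 := by
        have e : D.bar x.a * x.a = 0 := by linear_combination m02 - x.b * (two_zero (F := F))
        rwa [mul_eq_zero, map_eq_zero, or_self] at e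
      have hxb0 : x.b ≠ 0 := fun e0 => hg1 (by
        rw [Pt.eq_one_of_b e0, map_one] at hMx
        calc g' = P * M * P⁻¹ := by rw [hM]; group
          _ = 1 := by rw [hMx, mul_one, mul_inv_cancel])
      obtain ⟨s, hs', hs2⟩ := D.exists_sqrt (Pt.bar_b hxa)
      have hs0 : s ≠ 0 := fun e0 => hxb0 (by rw [← hs2, e0, mul_zero])
      refine ⟨((P * mT D s hs' hs0 : GJ D) : PJ D), ?_⟩
      show ((P * mT D s hs' hs0 : GJ D) : PJ D) * (mU D (one' D) : GJ D) * ((P * mT D s hs' hs0 : GJ D) : PJ D)⁻¹ = _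
      rw [← hgg, ← QuotientGroup.mk_inv, ← QuotientGroup.mk_mul, ← QuotientGroup.mk_mul]
      congr 1
      have e1 : mT D s hs' hs0 * mU D (one' D) = M * mT D s hs' hs0 := by
        refine gj_ext fun i j => ?_
        show mat (mT D s hs' hs0 * mU D (one' D)) i j = mat (M * mT D s hs' hs0) i j
        rw [mat_mul, mat_mul, hMx, mat_mU, mat_mU]
        fin_cases i <;> fin_cases j <;>
          simp [mT, mat_ofMat, one', Pt.zc, hxa, Matrix.mul_apply, Matrix.vecMul, dotProduct, Fin.sum_univ_three]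
        rw [← hs2]
        field_simp
      calc P * mT D s hs' hs0 * mU D (one' D) * (P * mT D s hs' hs0)⁻¹ =
            P * (mT D s hs' hs0 * mU D (one' D)) * (mT D s hs' hs0)⁻¹ * P⁻¹ := by group
        _ = g' := by rw [e1, hM]; group
  · haveI : Fact (Nat.Prime 2) := ⟨Nat.prime_two⟩
    set t : PJ D := ((mU D (one' D) : GJ D) : PJ D) with ht
    set t' : PJ D := ((mW D * mU D (one' D) * mW D : GJ D) : PJ D) with ht'
    haveI := Sylow.unique_of_normal P hP
    have hW : mW D * mW D = 1 := gj_ext fun i j => by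
      show mat (mW D * mW D) i j = mat (1 : GJ D) i j
      rw [mat_mul, mat_one]
      fin_cases i <;> fin_cases j <;> simp [mW, mat_ofMat, Matrix.mul_apply, Matrix.vecMul, dotProduct, Fin.sum_univ_three]
    have hu : mU D (one' D) * mU D (one' D) = 1 := by
      rw [← map_mul, ← map_one (mU D)]
      congr 1
      ext <;> simp [one', Pt.zc, Dat.add_self]
    have hmem : ∀ k : PJ D, k ^ 2 ^ 1 = 1 → k ∈ (P : Subgroup (PJ D)) := by
      intro k hk
      obtain ⟨j, -, hj⟩ := (Nat.dvd_prime_pow Nat.prime_two).1 (orderOf_dvd_of_pow_eq_one hk)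
      obtain ⟨Q, hQ⟩ := (IsPGroup.of_card (n := j) (by rw [Nat.card_zpowers, hj]) :
        IsPGroup 2 (Subgroup.zpowers k)).exists_le_sylow
      exact Subsingleton.elim Q P ▸ hQ (Subgroup.mem_zpowers k)
    have h1 : t ∈ (P : Subgroup (PJ D)) := hmem _ (by rw [pow_one, sq, ht, ← QuotientGroup.mk_mul, hu]; rfl)
    have h2 : t' ∈ (P : Subgroup (PJ D)) := hmem _ (by
      rw [pow_one, sq, ht', ← QuotientGroup.mk_mul,
        show mW D * mU D (one' D) * mW D * (mW D * mU D (one' D) * mW D) =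
          mW D * mU D (one' D) * (mW D * mW D) * mU D (one' D) * mW D by group,
        hW, mul_one, mul_assoc (mW D), hu, mul_one, hW]
      rfl)
    set z := mU D (one' D) * (mW D * mU D (one' D) * mW D) with hz
    have h3 : (z : PJ D) ^ 3 = 1 := by
      rw [← QuotientGroup.mk_pow, show z ^ 3 = 1 from gj_ext fun i j => by
        show mat (z ^ 3) i j = mat (1 : GJ D) i j
        rw [pow_succ, pow_succ, pow_one, hz, mat_mul, mat_mul, mat_mul, mat_mul, mat_mul, mat_one, mat_mU]
        fin_cases i <;> fin_cases j <;>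
          simp [mW, mat_ofMat, one', Pt.zc, Matrix.mul_apply, Matrix.vecMul, dotProduct, Fin.sum_univ_three, Dat.add_self]]
      rfl
    have h4 : (z : PJ D) ∈ (P : Subgroup (PJ D)) := by
      rw [hz, QuotientGroup.mk_mul]; exact mul_mem h1 h2
    obtain ⟨k, hk⟩ := P.isPGroup' ⟨_, h4⟩
    have h5 : (z : PJ D) ^ 2 ^ k = 1 := congrArg Subtype.val hk
    have h6 : (z : PJ D) = 1 := by
      have := pow_gcd_eq_one.2 ⟨h5, h3⟩
      rwa [show Nat.gcd (2 ^ k) 3 = 1 from Nat.Coprime.pow_left k (by norm_num), pow_one] at this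
    obtain ⟨α, hα⟩ := center_scalar ((QuotientGroup.eq_one_iff _).1 h6)
    have e02 := congrArg (fun B : GJ D => mat B 0 2) hα
    simp [hz, mat_mul, mat_mU, mat_mS, mW, mat_ofMat, one', Pt.zc, Matrix.mul_apply, Matrix.vecMul, dotProduct, Fin.sum_univ_three] at e02

/-! ## The standard form -/

theorem exists_equiv_GU : Nonempty (GJ D ≃* Cfsg.GU 3 F D.q) := by
  obtain ⟨t, ht⟩ := D.exists_trace_one
  let P0 : GL (Fin 3) F := Matrix.GeneralLinearGroup.mkOfDetNeZero !![1, 0, t; 1, 0, t + 1; 0, 1, 0] (by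
    simp [Matrix.det_fin_three])
  have hP : ∀ u v, hermForm 3 F D.q ((P0 : Matrix (Fin 3) (Fin 3) F) *ᵥ u) ((P0 : Matrix (Fin 3) (Fin 3) F) *ᵥ v) =
      bf D u v := by
    intro u v
    simp only [hermForm, ← D.bar_apply, Fin.sum_univ_three, bf, P0]
    simp [Matrix.mulVec, dotProduct, Fin.sum_univ_three, Matrix.GeneralLinearGroup.mkOfDetNeZero]
    linear_combination (u 2 * D.bar (v 2)) * ht +
      (u 0 * D.bar (v 0) + (u 2 * D.bar (v 0)) * t + (u 0 * D.bar (v 2)) * D.bar t +
        u 2 * D.bar (v 2) * (1 + t * D.bar t)) * (two_zero (F := F))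
  have hmem : ∀ A : GL (Fin 3) F, A ∈ GJ D ↔ P0 * A * P0⁻¹ ∈ Cfsg.GU 3 F D.q := by
    intro A
    have hc : ∀ x : Fin 3 → F, (P0 : Matrix (Fin 3) (Fin 3) F) *ᵥ
        (((P0⁻¹ : GL (Fin 3) F) : Matrix (Fin 3) (Fin 3) F) *ᵥ x) = x := fun x => by
      rw [Matrix.mulVec_mulVec, ← Units.val_mul, mul_inv_cancel, Units.val_one, Matrix.one_mulVec]
    have hm : ∀ x : Fin 3 → F, ((P0 * A * P0⁻¹ : GL (Fin 3) F) : Matrix (Fin 3) (Fin 3) F) *ᵥ
        ((P0 : Matrix (Fin 3) (Fin 3) F) *ᵥ x) =
        (P0 : Matrix (Fin 3) (Fin 3) F) *ᵥ ((A : Matrix (Fin 3) (Fin 3) F) *ᵥ x) := fun x => by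
      rw [Matrix.mulVec_mulVec, Matrix.mulVec_mulVec, ← Units.val_mul, ← Units.val_mul, inv_mul_cancel_right]
    constructor
    · intro hA u v
      show hermForm 3 F D.q (((P0 * A * P0⁻¹ : GL (Fin 3) F) : Matrix (Fin 3) (Fin 3) F) *ᵥ u)
        (((P0 * A * P0⁻¹ : GL (Fin 3) F) : Matrix (Fin 3) (Fin 3) F) *ᵥ v) = hermForm 3 F D.q u v
      rw [← hc u, ← hc v, hm, hm, hP, hP, hA]
    · intro hA u v
      rw [← hP, ← hP u v, ← hm, ← hm]
      exact hA _ _
  exact ⟨{
    toFun := fun A => ⟨P0 * A.1 * P0⁻¹, (hmem A.1).1 A.2⟩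
    invFun := fun g => ⟨P0⁻¹ * g.1 * P0, (hmem _).2 (by simp [mul_assoc])⟩
    left_inv := fun A => Subtype.ext (by simp [mul_assoc])
    right_inv := fun g => Subtype.ext (by simp [mul_assoc])
    map_mul' := fun A B => Subtype.ext (by simp [mul_assoc]) }⟩

end

end Cfsg.Lib.UThreeEven.Model
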