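import Cfsg.Agent.UnitaryThreeEven.Coord

/-!
# The group as a permutation group of the points

Every group with the hypothesis is isomorphic to the group of permutations `range0`, so any two are isomorphic.
-/

set_option autoImplicit false
set_option linter.unusedSectionVars false

namespace Cfsg.Lib.UThreeEven.Hyp

universe u v v'

variable {F : Type u} [Field F] [Fintype F] [CharP F 2] {D : Dat F} {G : Type v} [Group G] [Finite G] (h : Hyp D G)

noncomputable section

variable {h} (B : h.Base)

/-- The bijection of the abstract points with the points of the unital. -/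
def Base.pts : Option (Pt D) ≃ h.Om :=
  Equiv.ofBijective (fun x => x.elim h.o B.P) ⟨fun x y e => by
    rcases x with _ | a <;> rcases y with _ | b
    · rfl
    · exact absurd e.symm (B.P_ne b)
    · exact absurd e (B.P_ne a)
    · exact congrArg some (B.P_inj e), fun p => by
    by_cases hp : p = h.o
    · exact ⟨none, hp.symm⟩
    · obtain ⟨a, ha⟩ := B.exists_P hp
      exact ⟨some a, ha⟩⟩

theorem Base.pts_none : B.pts none = h.o := rfl

theorem Base.pts_some (a : Pt D) : B.pts (some a) = B.P a := rfl

/-- The permutation representation. -/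
def Base.rep : G →* Equiv.Perm (Option (Pt D)) where
  toFun g := (B.pts.trans (MulAction.toPerm g)).trans B.pts.symm
  map_one' := by ext x; simp
  map_mul' g g' := by ext x; simp [mul_smul]

theorem Base.rep_apply (g : G) (x : Option (Pt D)) : B.pts (B.rep g x) = g • B.pts x := by
  simp [Base.rep]

theorem Base.rep_injective : Function.Injective B.rep := by
  rw [injective_iff_map_eq_one]
  intro g hg
  have hfix : ∀ p : h.Om, g • p = p := fun p => by
    obtain ⟨x, rfl⟩ := B.pts.surjective p
    rw [← B.rep_apply, hg, Equiv.Perm.one_apply]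
  have hgH : g ∈ h.H := h.smul_o_iff.1 (hfix _)
  obtain ⟨l, rfl⟩ := B.eq_del' hgH (hfix _)
  have h1 : ∀ a, Pt.sca D l a = a := fun a => B.P_inj (by rw [← B.del_P, hfix])
  exact B.eq_one_of_centralize hgH (hfix _) fun a => by rw [B.del_conj, h1]

theorem Base.rep_U (a : Pt D) : B.rep (h.U a) = tau D a := by
  refine Equiv.ext fun x => B.pts.injective ?_
  rw [B.rep_apply]
  rcases x with _ | b
  · exact h.U_o a
  · exact B.U_P a b

theorem Base.rep_del (l : Fˣ) : B.rep (B.del l) = delta D l := by
  refine Equiv.ext fun x => B.pts.injective ?_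
  rw [B.rep_apply]
  rcases x with _ | b
  · exact B.del_o l
  · exact B.del_P l b

theorem Base.rep_range : ∀ e, e ∈ B.rep.range ↔ e ∈ range0 D := by
  obtain ⟨w, hw, hwo, hflip⟩ := B.exists_omega
  have hom : B.rep w = omega D := by
    refine Equiv.ext fun x => B.pts.injective ?_
    rw [B.rep_apply]
    rcases x with _ | b
    · show w • h.o = B.P 1
      rw [hwo, B.P_one]
    · by_cases hb : b = 1
      · rw [show omega D (some b) = none by simp [omega, omegaFun, hb], hb, B.pts_some, B.P_one, B.pts_none]
        exact h.swap_back hw hwo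
      · rw [show omega D (some b) = some (Pt.flip b) by simp [omega, omegaFun, hb], B.pts_some, B.pts_some]
        exact hflip b hb
  intro e
  constructor
  · rintro ⟨g, rfl⟩
    by_cases hg : g • h.o = h.o
    · obtain ⟨a, ha⟩ := B.exists_P (p := g • B.p0) fun e => B.ne (smul_left_cancel g (e.trans hg.symm))
      have h1 : (h.U a)⁻¹ * g ∈ h.H := mul_mem (inv_mem (h.C_le_H (h.U_mem_C a))) (h.smul_o_iff.1 hg)
      obtain ⟨l, hl⟩ := B.eq_del' h1 (by rw [mul_smul, ← ha, Base.P, inv_smul_smul])
      refine Or.inl ⟨a, l, ?_⟩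
      rw [← B.rep_U, ← B.rep_del, ← map_mul, ← hl, mul_inv_cancel_left]
    · obtain ⟨a, ha⟩ := B.exists_P hg
      set g1 := w * ((h.U a)⁻¹ * g) with hg1
      have ho : g1 • h.o = h.o := by
        rw [hg1, mul_smul, mul_smul, ← ha, Base.P, inv_smul_smul, h.swap_back hw hwo]
      obtain ⟨b, hb⟩ := B.exists_P (p := g1 • B.p0) fun e => B.ne (smul_left_cancel g1 (e.trans ho.symm))
      have h1 : (h.U b)⁻¹ * g1 ∈ h.H := mul_mem (inv_mem (h.C_le_H (h.U_mem_C b))) (h.smul_o_iff.1 ho)
      obtain ⟨l, hl⟩ := B.eq_del' h1 (by rw [mul_smul, ← hb, Base.P, inv_smul_smul])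
      refine Or.inr ⟨a, (barU D l)⁻¹, (Pt.sca D l⁻¹) b, ?_⟩
      rw [← B.rep_U, ← B.rep_del, ← hom, ← B.rep_U, ← map_mul, ← map_mul, ← map_mul]
      congr 1
      have h2 : g = h.U a * w * (h.U b * B.del l) := by
        rw [← hl, mul_inv_cancel_left, hg1]
        calc g = h.U a * ((w * w) * ((h.U a)⁻¹ * g)) := by rw [invol_mul_self hw, one_mul, mul_inv_cancel_left]
          _ = _ := by group
      have h3 : h.U b * B.del l = B.del l * h.U (Pt.sca D l⁻¹ b) := by
        rw [← inv_mul_cancel_right (B.del l * h.U (Pt.sca D l⁻¹ b)) (B.del l), B.del_conj]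
        congr 2
        rw [← MulAut.mul_apply, ← map_mul, mul_inv_cancel, map_one, MulAut.one_apply]
      have h4 : w * B.del l = B.del (barU D l)⁻¹ * w := by
        rw [← B.swap_del hw hwo, mul_assoc _ w w, invol_mul_self hw, mul_one]
      rw [h2, h3, ← mul_assoc, mul_assoc (h.U a), h4, ← mul_assoc]
  · rintro (⟨u, l, rfl⟩ | ⟨u, l, v, rfl⟩)
    · exact ⟨h.U u * B.del l, by rw [map_mul, B.rep_U, B.rep_del]⟩
    · exact ⟨h.U u * B.del l * w * h.U v, by
        rw [map_mul, map_mul, map_mul, B.rep_U, B.rep_del, hom, B.rep_U]⟩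

/-- Two groups with the hypothesis are isomorphic. -/
theorem nonempty_mulEquiv {G' : Type v'} [Group G'] [Finite G'] (h : Hyp D G) (h' : Hyp D G') :
    Nonempty (G ≃* G') := by
  obtain ⟨B⟩ := h.exists_Base
  obtain ⟨B'⟩ := h'.exists_Base
  have e : B.rep.range = B'.rep.range := Subgroup.ext fun x => (B.rep_range x).trans (B'.rep_range x).symm
  exact ⟨(MonoidHom.ofInjective B.rep_injective).trans
    ((MulEquiv.subgroupCongr e).trans (MonoidHom.ofInjective B'.rep_injective).symm)⟩

end

end Cfsg.Lib.UThreeEven.Hyp
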