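import Cfsg.Agent.UnitaryThreeEven.Pairs

/-!
# Coordinates on the points

The stabiliser of two points acts on the root group by dilatations. A swapper can be chosen to invert the centre of the
root group, and the fixed point sets of norm one elements force it to be `(a, b) ↦ (a / b, 1 / b)` everywhere.
-/

set_option autoImplicit false
set_option linter.unusedSectionVars false

namespace Cfsg.Lib.UThreeEven.Hyp

universe u v

variable {F : Type u} [Field F] [Fintype F] [CharP F 2] {D : Dat F} {G : Type v} [Group G] [Finite G] (h : Hyp D G)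

noncomputable section

/-- A second base point. -/
structure Base where
  /-- The point. -/
  p0 : h.Om
  ne : p0 ≠ h.o
  fixR : ∀ s, h.R s • p0 = p0
  trans : ∀ p : h.Om, p ≠ h.o → ∃ a, h.U a • p0 = p

theorem exists_Base : Nonempty h.Base := by
  obtain ⟨p, h1, h2, h3⟩ := h.exists_base
  exact ⟨⟨p, h1, h2, h3⟩⟩

theorem exists_sec (a : F) : ∃ x : Pt D, x.a = a := by
  obtain ⟨t, ht⟩ := D.exists_trace (D.bar_norm a)
  exact ⟨⟨a, t, ht⟩, rfl⟩

/-- A dilatation by a norm. -/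
theorem exists_norm {c : F} (hc : D.bar c = c) : ∃ s : F, D.bar s * s = c := by
  obtain ⟨s, h1, h2⟩ := D.exists_sqrt hc
  exact ⟨s, by rw [h1, h2]⟩

variable {h} (B : h.Base)

/-- The point with the given coordinates. -/
def Base.P (a : Pt D) : h.Om := h.U a • B.p0

theorem Base.P_one : B.P 1 = B.p0 := by rw [Base.P, map_one, one_smul]

theorem Base.U_P (a b : Pt D) : h.U a • B.P b = B.P (a * b) := by rw [Base.P, Base.P, ← mul_smul, map_mul]

theorem Base.P_ne (a : Pt D) : B.P a ≠ h.o := fun e => B.ne (smul_left_cancel (h.U a) (e.trans (h.U_o a).symm))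

theorem Base.P_inj : Function.Injective B.P := fun a b e => by
  have := h.U_semireg B.ne (a := b⁻¹ * a) (by rw [map_mul, map_inv]; exact h.smul_eq_iff.1 e)
  exact (inv_mul_eq_one.1 this).symm

theorem Base.exists_P {p : h.Om} (hp : p ≠ h.o) : ∃ a, B.P a = p := B.trans p hp

theorem Base.comm_R {d : G} (hdH : d ∈ h.H) (hdp : d • B.p0 = B.p0) (s : D.R0) : d * h.R s = h.R s * d := by
  obtain ⟨r, hr⟩ := exists_R_ne_one (D := D)
  obtain ⟨w, hw, hwp⟩ := h.exists_swap B.ne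
  obtain ⟨e, l, heH, hep, hinv, hl, hlp, rfl⟩ := h.decomp hw B.ne hwp hdH hdp
  obtain ⟨s', rfl⟩ := h.L_eq hr B.ne (B.fixR r) hl hlp
  have e1 := h.inv_comm hw B.ne hwp heH hinv (h.R_mem_C s) (B.fixR s)
  calc e * h.R s' * h.R s = e * (h.R s * h.R s') := by
        rw [mul_assoc, ← map_mul, ← map_mul, show s' * s = s * s' from Subtype.ext (mul_comm (s' : Fˣ) s)]
    _ = _ := by rw [← mul_assoc, e1, mul_assoc]

/-- The stabiliser of the two base points consists of dilatations. -/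
theorem Base.exists_lam {d : G} (hdH : d ∈ h.H) (hdp : d • B.p0 = B.p0) :
    ∃ l : Fˣ, ∀ a, d * h.U a * d⁻¹ = h.U (Pt.sca D l a) := by
  have hn : ∀ a, ∃ a', h.U a' = d * h.U a * d⁻¹ := fun a =>
    (Subgroup.mem_normalizer_iff.1 hdH (h.U a)).1 ⟨a, rfl⟩
  choose θ hθ using hn
  have hmul : ∀ a b, θ (a * b) = θ a * θ b := fun a b => h.U_inj (by
    rw [hθ, map_mul h.U, map_mul h.U, hθ, hθ]; group)
  have hinj : Function.Injective θ := fun a b e => h.U_inj (by
    have := hθ a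
    rw [e, hθ] at this
    exact mul_left_cancel (mul_right_cancel this.symm))
  have hker : ∀ a : Pt D, a.a = 0 → (θ a).a = 0 := fun a ha => by
    by_cases h1 : a = 1
    · subst h1
      have : θ 1 = 1 := h.U_inj (by rw [hθ, map_one]; group)
      rw [this, Pt.one_a]
    · have hz : h.IsZ (h.U a) := ⟨fun e => h1 (h.U_inj (e.trans (map_one _).symm)), a, ha, rfl⟩
      obtain ⟨-, b, hb, e⟩ := h.conj_isZ hdH hz
      rw [← hθ] at e
      rwa [h.U_inj e]
  have hsca : ∀ (s : D.R0) a, θ (Pt.sca D (s : Fˣ) a) = Pt.sca D (s : Fˣ) (θ a) := fun s a => h.U_inj (by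
    rw [hθ, ← h.conj, ← h.conj, hθ]
    have e := B.comm_R hdH hdp s
    calc d * (h.R s * h.U a * (h.R s)⁻¹) * d⁻¹ = d * h.R s * h.U a * (d * h.R s)⁻¹ := by group
      _ = _ := by rw [e]; group)
  choose sec hsec using fun a : F => exists_sec (D := D) a
  have hdep : ∀ a b : Pt D, a.a = b.a → (θ a).a = (θ b).a := fun a b e => by
    have h1 := hker (a⁻¹ * b) (by rw [Pt.mul_a, Pt.inv_a, e, Dat.add_self])
    have h2 : θ b = θ a * θ (a⁻¹ * b) := by rw [← hmul, mul_inv_cancel_left]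
    rw [h2, Pt.mul_a, h1, add_zero]
  let f : F →+ F := AddMonoidHom.mk' (fun x => (θ (sec x)).a) fun x y => by
    rw [hdep (sec (x + y)) (sec x * sec y) (by rw [Pt.mul_a, hsec, hsec, hsec]), hmul, Pt.mul_a]
  have hlin := D.linear_of_comm f fun r hr x => by
    have hr0 : r ≠ 0 := fun e => by simp [e] at hr
    let s : D.R0 := ⟨Units.mk0 r hr0, D.mem_R0.2 hr⟩
    show (θ (sec (r * x))).a = r * (θ (sec x)).a
    rw [hdep (sec (r * x)) (Pt.sca D (s : Fˣ) (sec x)) (by rw [Pt.sca_a, hsec, hsec]; rfl), hsca, Pt.sca_a]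
    rfl
  have hfa : ∀ a : Pt D, (θ a).a = f 1 * a.a := fun a => by
    rw [← hlin]; exact hdep a (sec a.a) (hsec _).symm
  have hl0 : f 1 ≠ 0 := fun e => by
    have h1 : θ (sec 1 * sec 1) = θ 1 := by
      rw [hmul, show θ (1 : Pt D) = 1 from h.U_inj (by rw [hθ, map_one]; group)]
      ext <;> simp [hfa, e, Dat.add_self]
    have := congrArg Pt.b (hinj h1)
    rw [Pt.sq_b, hsec, map_one, mul_one, Pt.one_b] at this
    exact one_ne_zero this
  refine ⟨Units.mk0 _ hl0, fun a => ?_⟩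
  rw [← hθ]
  set l := Units.mk0 _ hl0 with hl
  let δ : Pt D → F := fun a => (θ a).b + D.bar (l : F) * (l : F) * a.b
  have hδmul : ∀ a b : Pt D, δ (a * b) = δ a + δ b := fun a b => by
    show (θ (a * b)).b + _ = _
    rw [hmul, Pt.mul_b, Pt.mul_b, hfa, hfa, map_mul]
    show _ = (θ a).b + D.bar (f 1) * f 1 * a.b + ((θ b).b + D.bar (f 1) * f 1 * b.b)
    rw [show (l : F) = f 1 from rfl]
    linear_combination (D.bar (f 1) * f 1 * D.bar a.a * b.a) * (CharTwo.two_eq_zero : (2 : F) = 0)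
  have hδker : ∀ z : Pt D, z.a = 0 → δ z = 0 := fun z hz => by
    obtain ⟨s, hs⟩ := exists_norm (D := D) (Pt.bar_b hz)
    have e : z = sec s * sec s := by
      ext
      · rw [Pt.sq_a, hz]
      · rw [Pt.sq_b, hsec, hs]
    show (θ z).b + _ = 0
    rw [e, hmul, Pt.sq_b, Pt.sq_b, hfa, hsec, map_mul, show (l : F) = f 1 from rfl]
    linear_combination (D.bar (f 1) * f 1 * (D.bar s * s)) * (CharTwo.two_eq_zero : (2 : F) = 0)
  have hδsca : ∀ (s : D.R0) (a : Pt D), δ (Pt.sca D (s : Fˣ) a) = δ a := fun s a => by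
    show (θ _).b + _ = _
    rw [hsca, Pt.sca_R0, Pt.sca_R0]
  obtain ⟨r, hr⟩ := exists_R_ne_one (D := D)
  have hδ : δ a = 0 := by
    set y := sec (a.a / (1 + ((r : Fˣ) : F))) with hy
    have e : a = y * Pt.sca D (r : Fˣ) y * ((y * Pt.sca D (r : Fˣ) y)⁻¹ * a) := by rw [mul_inv_cancel_left]
    rw [e, hδmul, hδmul, hδsca, Dat.add_self, zero_add, hδker _ ?_]
    rw [Pt.mul_a, Pt.inv_a, Pt.mul_a, Pt.sca_a, hy, hsec]
    have := one_add_ne hr
    field_simp
    linear_combination a.a * (CharTwo.two_eq_zero : (2 : F) = 0)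
  congr 1
  ext
  · rw [hfa, Pt.sca_a]; rfl
  · rw [Pt.sca_b]; exact CharTwo.add_eq_zero.1 hδ

theorem Base.eq_one_of_centralize {d : G} (hdH : d ∈ h.H) (hdp : d • B.p0 = B.p0)
    (hc : ∀ a, d * h.U a * d⁻¹ = h.U a) : d = 1 := by
  obtain ⟨r, hr⟩ := exists_R_ne_one (D := D)
  have hC : d ∈ h.C := Subgroup.mem_centralizer_singleton_iff.2 (mul_inv_eq_iff_eq_mul.1 (hc (one' D)))
  obtain ⟨s, rfl⟩ := h.L_eq hr B.ne (B.fixR r) hC hdp
  obtain ⟨x, hx⟩ := exists_sec (D := D) (1 : F)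
  have h1 := hc x
  rw [h.conj] at h1
  have h2 := congrArg Pt.a (h.U_inj h1)
  rw [Pt.sca_a, hx, mul_one] at h2
  rw [show s = 1 from Subtype.ext (Units.ext h2), map_one]

theorem Base.exists_del (l : Fˣ) :
    ∃ d : G, d ∈ h.H ∧ d • B.p0 = B.p0 ∧ ∀ a, d * h.U a * d⁻¹ = h.U (Pt.sca D l a) := by
  classical
  let S := {d : G // d ∈ h.H ∧ d • B.p0 = B.p0}
  let f : S → Fˣ := fun d => (B.exists_lam d.2.1 d.2.2).choose
  have hf : ∀ d : S, ∀ a, d.1 * h.U a * d.1⁻¹ = h.U (Pt.sca D (f d) a) := fun d =>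
    (B.exists_lam d.2.1 d.2.2).choose_spec
  have hinj : Function.Injective f := fun d d' e => by
    have h1 : d'.1⁻¹ * d.1 = 1 := B.eq_one_of_centralize (mul_mem (inv_mem d'.2.1) d.2.1)
      (by rw [mul_smul, d.2.2, h.inv_fix d'.2.2]) fun a => by
        calc d'.1⁻¹ * d.1 * h.U a * (d'.1⁻¹ * d.1)⁻¹ = d'.1⁻¹ * (d.1 * h.U a * d.1⁻¹) * d'.1 := by group
          _ = d'.1⁻¹ * (d'.1 * h.U a * d'.1⁻¹) * d'.1 := by rw [hf, hf, e]
          _ = _ := by group
    exact Subtype.ext (inv_mul_eq_one.1 h1).symm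
  have hle : Nat.card Fˣ ≤ Nat.card S := by
    have h1 : Nat.card h.H ≤ Nat.card (Pt D × S) := by
      refine Nat.card_le_card_of_surjective (fun w : Pt D × S => (⟨h.U w.1 * w.2.1,
        mul_mem (h.C_le_H (h.U_mem_C w.1)) w.2.2.1⟩ : h.H)) fun g => ?_
      have hne : (g : G) • B.p0 ≠ h.o := fun e =>
        B.ne (smul_left_cancel (g : G) (e.trans (h.smul_o_iff.2 g.2).symm))
      obtain ⟨a, ha⟩ := B.trans _ hne
      refine ⟨(a, ⟨(h.U a)⁻¹ * g, mul_mem (inv_mem (h.C_le_H (h.U_mem_C a))) g.2, ?_⟩), Subtype.ext (by simp)⟩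
      rw [mul_smul, ← ha, inv_smul_smul]
    rw [Nat.card_prod, h.card_H, card_Pt, ← mul_left_comm] at h1
    rw [D.card_units, D.q_sq_sub_one, mul_comm]
    exact Nat.le_of_mul_le_mul_left h1 (pow_pos (by have := D.hq; omega) 3)
  obtain ⟨d, hd⟩ := ((Nat.bijective_iff_injective_and_card f).2
    ⟨hinj, le_antisymm (Nat.card_le_card_of_injective f hinj) hle⟩).2 l
  exact ⟨d.1, d.2.1, d.2.2, hd ▸ hf d⟩

/-- The dilatation. -/
def Base.del (l : Fˣ) : G := (B.exists_del l).choose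

theorem Base.del_mem (l : Fˣ) : B.del l ∈ h.H := (B.exists_del l).choose_spec.1

theorem Base.del_p0 (l : Fˣ) : B.del l • B.p0 = B.p0 := (B.exists_del l).choose_spec.2.1

theorem Base.del_o (l : Fˣ) : B.del l • h.o = h.o := h.smul_o_iff.2 (B.del_mem l)

theorem Base.del_conj (l : Fˣ) (a : Pt D) : B.del l * h.U a * (B.del l)⁻¹ = h.U (Pt.sca D l a) :=
  (B.exists_del l).choose_spec.2.2 a

theorem Base.eq_del {d : G} (hdH : d ∈ h.H) (hdp : d • B.p0 = B.p0) {l : Fˣ}
    (hc : ∀ a, d * h.U a * d⁻¹ = h.U (Pt.sca D l a)) : d = B.del l := by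
  refine (inv_mul_eq_one.1 (B.eq_one_of_centralize (mul_mem (inv_mem (B.del_mem l)) hdH) ?_ fun a => ?_)).symm
  · rw [mul_smul, hdp, h.inv_fix (B.del_p0 l)]
  · calc (B.del l)⁻¹ * d * h.U a * ((B.del l)⁻¹ * d)⁻¹ = (B.del l)⁻¹ * (d * h.U a * d⁻¹) * B.del l := by group
      _ = _ := by rw [hc, ← B.del_conj]; group

theorem Base.eq_del' {d : G} (hdH : d ∈ h.H) (hdp : d • B.p0 = B.p0) : ∃ l, d = B.del l := by
  obtain ⟨l, hl⟩ := B.exists_lam hdH hdp
  exact ⟨l, B.eq_del hdH hdp hl⟩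

theorem Base.del_P (l : Fˣ) (a : Pt D) : B.del l • B.P a = B.P (Pt.sca D l a) := by
  rw [Base.P, Base.P, ← mul_smul, ← B.del_conj, mul_smul (B.del l * h.U a) _, h.inv_fix (B.del_p0 l)]

theorem Base.del_mul (l m : Fˣ) : B.del (l * m) = B.del l * B.del m := by
  refine (B.eq_del (mul_mem (B.del_mem l) (B.del_mem m)) (by rw [mul_smul, B.del_p0, B.del_p0]) fun a => ?_).symm
  calc B.del l * B.del m * h.U a * (B.del l * B.del m)⁻¹ =
        B.del l * (B.del m * h.U a * (B.del m)⁻¹) * (B.del l)⁻¹ := by group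
    _ = _ := by rw [B.del_conj, B.del_conj, map_mul]; rfl

theorem Base.del_one : B.del 1 = 1 := (B.eq_del (one_mem _) (one_smul _ _) (by simp)).symm

/-- The dilatations as a homomorphism. -/
def Base.delHom : Fˣ →* G where
  toFun := B.del
  map_one' := B.del_one
  map_mul' := B.del_mul

theorem Base.del_R (s : D.R0) : B.del (s : Fˣ) = h.R s :=
  (B.eq_del (h.C_le_H (h.R_mem_C s)) (B.fixR s) fun a => h.conj s a).symm

/-- The involution `bar` on units. -/
def barU (D : Dat F) : Fˣ →* Fˣ := Units.map (D.bar : F →* F)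

/-- A swapper conjugates the dilatations by `l ↦ bar l ⁻¹`. -/
theorem Base.swap_del {w : G} (hw : _root_.orderOf w = 2) (hwp : w • h.o = B.p0) (l : Fˣ) :
    w * B.del l * w = B.del (barU D l)⁻¹ := by
  obtain ⟨c, hc, hc2⟩ := D.exists_sqrt (D.bar_norm (l : F))
  have hc0 : c ≠ 0 := fun e => by simp [e] at hc2
  have hr : l * (Units.mk0 c hc0)⁻¹ ∈ D.R0 := by
    rw [D.mem_R0, Units.val_mul, Units.val_inv_eq_inv_val, Units.val_mk0, map_mul, map_inv₀, hc]
    field_simp
    linear_combination -hc2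
  have hcpow : B.del (Units.mk0 c hc0) ^ (D.q - 1) = 1 := by
    show B.delHom _ ^ (D.q - 1) = 1
    rw [← map_pow, ← map_one B.delHom]
    congr 1
    refine Units.ext ?_
    rw [Units.val_pow_eq_pow_val, Units.val_one, Units.val_mk0]
    refine mul_left_cancel₀ hc0 ?_
    rw [← pow_succ', Nat.sub_add_cancel (by have := D.hq; omega), mul_one, ← D.bar_apply, hc]
  have e1 := h.pred_inverted hw B.ne hwp (B.del_mem _) (B.del_p0 _) hcpow
  have e2 := h.swap_comm hw B.ne hwp (h.R_mem_C ⟨_, hr⟩) (B.fixR ⟨_, hr⟩)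
  have el : B.del l = h.R ⟨_, hr⟩ * B.del (Units.mk0 c hc0) := by
    rw [← B.del_R, ← B.del_mul, inv_mul_cancel_right]
  have er : (barU D l)⁻¹ = (l * (Units.mk0 c hc0)⁻¹) * (Units.mk0 c hc0)⁻¹ := by
    refine inv_eq_of_mul_eq_one_right (Units.ext ?_)
    simp only [Units.val_mul, Units.val_inv_eq_inv_val, Units.val_mk0, Units.val_one, barU, Units.coe_map,
      MonoidHom.coe_coe]
    field_simp
    linear_combination -hc2
  rw [er, el]
  calc w * (h.R ⟨_, hr⟩ * B.del (Units.mk0 c hc0)) * w = h.R ⟨_, hr⟩ * (w * B.del (Units.mk0 c hc0) * w) := by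
        rw [← mul_assoc w, e2]; group
    _ = _ := by
        rw [e1, ← B.del_R]
        show B.delHom _ * (B.delHom _)⁻¹ = B.delHom _
        rw [← map_inv, ← map_mul]

/-- The zero set of the first coordinate is the fixed point set of the norm one group. -/
theorem Base.a_eq_zero {r : D.R0} (hr : r ≠ 1) {a : Pt D} (ha : h.R r • B.P a = B.P a) : a.a = 0 := by
  obtain ⟨z, hz, e⟩ := h.fix_orbit hr B.ne (B.P_ne a) (B.fixR r) ha
  rw [← B.P_inj e, hz]

theorem Base.fix_of_a_zero (s : D.R0) {a : Pt D} (ha : a.a = 0) : h.R s • B.P a = B.P a := by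
  rw [Base.P, ← mul_smul, h.R_commute_Z ha, mul_smul, B.fixR]

/-- The point with both coordinates `1 + r`. -/
def xr (r : D.R0) : Pt D := ⟨1 + ((r : Fˣ) : F), 1 + ((r : Fˣ) : F), by
  rw [map_add, map_one]
  linear_combination -(D.R0_norm r) + (1 : F) * (CharTwo.two_eq_zero : (2 : F) = 0) -
    (1 : F) * (CharTwo.two_eq_zero : (2 : F) = 0) + (0 : F) * (CharTwo.two_eq_zero : (2 : F) = 0)⟩

theorem xr_inj : Function.Injective (xr (D := D)) := fun r s e =>
  Subtype.ext (Units.ext (add_left_cancel (congrArg Pt.a e)))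

theorem xr_ne {r : D.R0} (hr : r ≠ 1) : xr r ≠ 1 := fun e => one_add_ne hr (congrArg Pt.a e)

/-- The distinguished swapper and its coordinate description. -/
theorem Base.exists_omega : ∃ w : G, _root_.orderOf w = 2 ∧ w • h.o = B.p0 ∧
    ∀ a : Pt D, a ≠ 1 → w • B.P a = B.P (Pt.flip a) := by
  classical
  obtain ⟨r, hr⟩ := exists_R_ne_one (D := D)
  obtain ⟨w₀, hw₀, hwp₀⟩ := h.exists_swap B.ne
  obtain ⟨k, hk⟩ := B.exists_P (p := w₀ • B.P (one' D)) (fun e => by
    have := smul_left_cancel w₀ (e.trans (h.swap_back hw₀ hwp₀).symm)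
    exact h.x_ne (congrArg h.U (B.P_inj (this.trans B.P_one.symm)) |>.trans (map_one _)))
  have hka : k.a = 0 := B.a_eq_zero hr (by
    rw [hk, ← mul_smul, ← h.swap_comm hw₀ B.ne hwp₀ (h.R_mem_C r) (B.fixR r), mul_smul, B.fix_of_a_zero r rfl])
  have hkb : k.b ≠ 0 := fun e => by
    rw [Pt.eq_one_of_b e, B.P_one, ← smul_inv_smul w₀ B.p0,
      inv_eq_of_mul_eq_one_right (invol_mul_self hw₀), h.swap_back hw₀ hwp₀] at hk
    exact B.P_ne _ (smul_left_cancel w₀ hk).symm
  obtain ⟨m, hm, hm2⟩ := D.exists_sqrt (Pt.bar_b hka)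
  have hm0 : m ≠ 0 := fun e => hkb (by rw [← hm2, e, mul_zero])
  set μ := Units.mk0 m hm0 with hμ
  have hbμ : barU D μ = μ := Units.ext hm
  set w := w₀ * B.del μ with hwd
  have hwo : w • h.o = B.p0 := by rw [hwd, mul_smul, B.del_o, hwp₀]
  have hw : _root_.orderOf w = 2 := by
    refine orderOf_eq_prime ?_ fun e => B.ne (by rw [← hwo, e, one_smul])
    rw [sq, hwd, ← mul_assoc, B.swap_del hw₀ hwp₀, hbμ]
    show B.delHom μ⁻¹ * B.delHom μ = 1
    rw [← map_mul, inv_mul_cancel, map_one]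
  have hwi : w * w = 1 := invol_mul_self hw
  have hwp : w • B.p0 = h.o := h.swap_back hw hwo
  have hne : ∀ a : Pt D, a ≠ 1 → w • B.P a ≠ h.o := fun a ha e =>
    ha (B.P_inj ((smul_left_cancel w (e.trans hwp.symm)).trans B.P_one.symm))
  have hex : ∀ a : Pt D, ∃ b, a ≠ 1 → B.P b = w • B.P a := fun a => by
    by_cases ha : a = 1
    · exact ⟨1, fun h' => absurd ha h'⟩
    · obtain ⟨b, hb⟩ := B.exists_P (hne a ha)
      exact ⟨b, fun _ => hb⟩
  choose ψ hψ using hex
  have hψne : ∀ a, a ≠ 1 → ψ a ≠ 1 := fun a ha e => by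
    have h1 := hψ a ha
    rw [e, B.P_one, ← hwo] at h1
    exact B.P_ne a (smul_left_cancel w h1).symm
  have hsca_ne : ∀ (l : Fˣ) (a : Pt D), a ≠ 1 → Pt.sca D l a ≠ 1 := fun l a ha e =>
    ha ((Pt.sca D l).injective (e.trans (map_one _).symm))
  have hψsca : ∀ (l : Fˣ) a, a ≠ 1 → ψ (Pt.sca D l a) = Pt.sca D (barU D l)⁻¹ (ψ a) := fun l a ha => by
    refine B.P_inj ?_
    rw [hψ _ (hsca_ne l a ha), ← B.del_P, ← B.del_P, hψ a ha, ← B.swap_del hw hwo]
    have e : w * B.del l * w * w = w * B.del l := by rw [mul_assoc, hwi, mul_one]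
    calc w • (B.del l • B.P a) = (w * B.del l) • B.P a := (mul_smul _ _ _).symm
      _ = (w * B.del l * w * w) • B.P a := by rw [e]
      _ = _ := mul_smul _ _ _
  have hψinv : ∀ a, a ≠ 1 → ψ (ψ a) = a := fun a ha => by
    refine B.P_inj ?_
    rw [hψ _ (hψne a ha), hψ a ha, ← mul_smul, hwi, one_smul]
  have hwR : ∀ s, w * h.R s = h.R s * w := fun s => h.swap_comm hw B.ne hwo (h.R_mem_C s) (B.fixR s)
  have hψker : ∀ a : Pt D, a ≠ 1 → a.a = 0 → (ψ a).a = 0 := fun a ha ha0 => by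
    refine B.a_eq_zero hr ?_
    rw [hψ a ha, ← mul_smul, ← hwR, mul_smul, B.fix_of_a_zero r ha0]
  -- the action on the fixed line
  have hzne : ∀ {c : F} (hc : D.bar c = c), c ≠ 0 → Pt.zc D c hc ≠ 1 := fun hc h0 e => h0 (congrArg Pt.b e)
  have hone : Pt.sca D μ (one' D) ≠ 1 := hsca_ne _ _ (fun e => one_ne_zero (congrArg Pt.b e))
  have hκ : ψ (one' D) = one' D := by
    have h1 : one' D ≠ 1 := fun e => one_ne_zero (congrArg Pt.b e)
    refine B.P_inj ?_
    have e1 : w₀ • B.P (Pt.sca D μ (one' D)) = B.del (barU D μ)⁻¹ • B.P k := by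
      rw [← B.del_P, hk, ← B.swap_del hw₀ hwp₀, mul_smul, mul_smul, ← mul_smul w₀ w₀, invol_mul_self hw₀, one_smul]
    rw [hψ _ h1, hwd, mul_smul, B.del_P, e1, B.del_P, hbμ]
    congr 1
    ext
    · rw [Pt.sca_a, hka, mul_zero]; rfl
    · simp only [Pt.sca_b, Units.val_inv_eq_inv_val, map_inv₀, hμ, Units.val_mk0, hm, one', Pt.zc]
      field_simp
      linear_combination -hm2
  have hψzc : ∀ (c : F) (hc : D.bar c = c), c ≠ 0 →
      ψ (Pt.zc D c hc) = Pt.zc D c⁻¹ (by rw [map_inv₀, hc]) := fun c hc hc0 => by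
    obtain ⟨s, hs, hs2⟩ := D.exists_sqrt hc
    have hs0 : s ≠ 0 := fun e => hc0 (by rw [← hs2, e, mul_zero])
    have e : Pt.zc D c hc = Pt.sca D (Units.mk0 s hs0) (one' D) := by
      ext <;> simp [Pt.zc, one', hs, hs2]
    rw [e, hψsca _ _ (fun e' => one_ne_zero (congrArg Pt.b e')), hκ]
    ext
    · rw [Pt.sca_a]; exact mul_zero _
    · simp only [Pt.sca_b, Units.val_inv_eq_inv_val, barU, Units.coe_map, MonoidHom.coe_coe, Units.val_mk0, map_inv₀,
        hs, one', Pt.zc]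
      field_simp
      linear_combination -hs2
  have hzP : ∀ (c d : F) (hc : D.bar c = c) (hd : D.bar d = d), h.U (Pt.zc D c hc) • B.P (Pt.zc D d hd) =
      B.P (Pt.zc D (c + d) (by rw [map_add, hc, hd])) := fun c d hc hd => by
    rw [B.U_P]; congr 1; ext <;> simp [Pt.zc]
  have hwz : ∀ (c : F) (hc : D.bar c = c), c ≠ 0 → w • B.P (Pt.zc D c hc) =
      B.P (Pt.zc D c⁻¹ (by rw [map_inv₀, hc])) := fun c hc hc0 => by
    rw [← hψ _ (hzne hc hc0), hψzc c hc hc0]
  -- the relation between the centre and the swapper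
  obtain ⟨hcentR, ⟨A, iA, π, hA, hπ⟩, -⟩ := h.key hr B.ne (B.fixR r)
  have hrel : ∀ (c : F) (hc : D.bar c = c) (hc0 : c ≠ 0), w * h.U (Pt.zc D c hc) * w =
      h.U (Pt.zc D c⁻¹ (by rw [map_inv₀, hc])) * B.del (Units.mk0 c hc0)⁻¹ * w *
        h.U (Pt.zc D c⁻¹ (by rw [map_inv₀, hc])) := by
    intro c hc hc0
    set t := h.U (Pt.zc D c⁻¹ (by rw [map_inv₀, hc])) with ht
    set tc := h.U (Pt.zc D c hc) with htc
    have hci : D.bar c⁻¹ = c⁻¹ := by rw [map_inv₀, hc]
    have hzz : ∀ (d : F) (hd : D.bar d = d), h.U (Pt.zc D d hd) * h.U (Pt.zc D d hd) = 1 := fun d hd => by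
      rw [← map_mul, ← map_one h.U]; congr 1; ext <;> simp [Pt.zc, Dat.add_self]
    set M := t * (w * tc * w) * t * w with hM
    have hMo : M • h.o = h.o := by
      simp only [hM, ht, htc, mul_smul]
      rw [hwo, ← B.P_one, B.U_P, mul_one, hwz _ hci (inv_ne_zero hc0), hzP]
      rw [show Pt.zc D (c + c⁻¹⁻¹) _ = 1 by ext <;> simp [Pt.zc, Dat.add_self]]
      rw [B.P_one, hwp, h.U_o]
    have hMp : M • B.p0 = B.p0 := by
      simp only [hM, ht, htc, mul_smul]
      rw [hwp, h.U_o, hwo, ← B.P_one, B.U_P, mul_one, hwz c hc hc0, hzP]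
      congr 1
      ext <;> simp [Pt.zc, Dat.add_self]
    obtain ⟨l, hl⟩ := B.eq_del' (h.smul_o_iff.1 hMo) hMp
    obtain ⟨x, hx, hx0, hxc⟩ : ∃ x : F, D.bar x = x ∧ x ≠ 0 ∧ x ≠ c := by
      by_contra! hh
      have hall : ∀ a : {a : Pt D // a.a = 0}, a.1.b = 0 ∨ a.1.b = c := fun a => by
        by_cases e : a.1.b = 0
        · exact Or.inl e
        · exact Or.inr (hh _ (Pt.bar_b a.2) e)
      have : Nat.card {a : Pt D // a.a = 0} ≤ 2 := by
        refine (Nat.card_le_card_of_injective (fun a => decide (a.1.b = 0)) fun a b e => ?_).trans (by simp)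
        simp only [decide_eq_decide] at e
        refine Subtype.ext (Pt.ext (a.2.trans b.2.symm) ?_)
        by_cases ha : a.1.b = 0
        · rw [ha, e.1 ha]
        · rw [(hall a).resolve_left ha, (hall b).resolve_left fun hb => ha (e.2 hb)]
      rw [card_ker_a] at this
      have := D.hq
      omega
    have hsum : c⁻¹ + x⁻¹ ≠ 0 := fun e => hxc (inv_injective (CharTwo.add_eq_zero.1 e)).symm
    have hsum2 : c + (c⁻¹ + x⁻¹)⁻¹ ≠ 0 := fun e => by
      have h1 : c⁻¹ = c⁻¹ + x⁻¹ := (congrArg (fun z : F => z⁻¹) (CharTwo.add_eq_zero.1 e)).trans (inv_inv _)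
      exact hx0 (inv_eq_zero.1 (left_eq_add.1 h1))
    have hxi : D.bar x⁻¹ = x⁻¹ := by rw [map_inv₀, hx]
    have hs : D.bar (c⁻¹ + x⁻¹) = c⁻¹ + x⁻¹ := by rw [map_add, hci, hxi]
    have hs2 : D.bar (c + (c⁻¹ + x⁻¹)⁻¹) = c + (c⁻¹ + x⁻¹)⁻¹ := by rw [map_add, hc, map_inv₀, hs]
    have hev : M • B.P (Pt.zc D x hx) = B.P (Pt.zc D (c⁻¹ + (c + (c⁻¹ + x⁻¹)⁻¹)⁻¹) (by
        rw [map_add, hci, map_inv₀, hs2])) := by
      simp only [hM, ht, htc, mul_smul]
      rw [hwz x hx hx0, hzP, hwz _ hs hsum, hzP, hwz _ hs2 hsum2, hzP]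
    rw [hl, B.del_P] at hev
    have hn := congrArg Pt.b (B.P_inj hev)
    simp only [Pt.sca_b, Pt.zc] at hn
    have hN : D.bar (l : F) * (l : F) * (c * c) = 1 := by
      refine mul_left_cancel₀ hx0 ?_
      rw [mul_one]
      have hne1 : x + c ≠ 0 := fun e => hxc (CharTwo.add_eq_zero.1 e)
      have hv : c + (c⁻¹ + x⁻¹)⁻¹ = c * c / (x + c) := by
        field_simp
        linear_combination x * (CharTwo.two_eq_zero : (2 : F) = 0)
      have e1 : c⁻¹ + (c + (c⁻¹ + x⁻¹)⁻¹)⁻¹ = x / (c * c) := by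
        rw [hv, inv_div]
        field_simp
        linear_combination c * (CharTwo.two_eq_zero : (2 : F) = 0)
      rw [e1] at hn
      field_simp at hn
      linear_combination x * hn
    have hlr : l * Units.mk0 c hc0 ∈ D.R0 := by
      rw [D.mem_R0, Units.val_mul, Units.val_mk0, map_mul, hc]
      linear_combination hN
    set s : D.R0 := ⟨_, hlr⟩ with hsdef
    have hMs : M = h.R s * B.del (Units.mk0 c hc0)⁻¹ := by
      rw [hl, ← B.del_R, hsdef, ← B.del_mul, mul_inv_cancel_right]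
    -- the odd direct factor of the centraliser kills every involution
    have hK : ∀ {g : G}, g * h.R r = h.R r * g → g ∈ h.K r := fun hg => Subgroup.mem_centralizer_singleton_iff.2 hg
    have hwK : w ∈ h.K r := hK (hwR r)
    have htK : t ∈ h.K r := hK (by rw [ht]; exact (h.R_commute_Z rfl r).symm)
    have htcK : tc ∈ h.K r := hK (by rw [htc]; exact (h.R_commute_Z rfl r).symm)
    have hkill : ∀ k : h.K r, k * k = 1 → π k = 1 := fun k hk2 =>
      eq_one_of_sq (M := A) hA pow_card_eq_one' (by rw [← map_mul, hk2, map_one])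
    have hdK : B.del (Units.mk0 c hc0)⁻¹ ∈ h.K r := hK (B.comm_R (B.del_mem _) (B.del_p0 _) r)
    have hdi : π ⟨_, hdK⟩ = 1 := by
      have h2 : (⟨w, hwK⟩ : h.K r) * ⟨_, hdK⟩ * ⟨w, hwK⟩ = (⟨_, hdK⟩ : h.K r)⁻¹ := by
        refine Subtype.ext ?_
        show w * B.del _ * w = (B.del _)⁻¹
        rw [B.swap_del hw hwo]
        show B.delHom _ = (B.delHom _)⁻¹
        rw [← map_inv B.delHom, ← map_inv (barU D), inv_inv]
        congr 1
        exact Units.ext hc
      have h3 := congrArg π h2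
      rw [map_mul, map_mul, hkill _ (Subtype.ext hwi), one_mul, mul_one, map_inv] at h3
      exact eq_one_of_sq (M := A) hA pow_card_eq_one' (mul_eq_one_iff_eq_inv.2 h3)
    have hs1 : s = 1 := by
      refine hπ s ?_
      have h2 : (⟨t, htK⟩ : h.K r) * (⟨w, hwK⟩ * ⟨tc, htcK⟩ * ⟨w, hwK⟩) * ⟨t, htK⟩ * ⟨w, hwK⟩ =
          ⟨h.R s, h.R_mem_K r s⟩ * ⟨_, hdK⟩ := Subtype.ext hMs
      have h3 := congrArg π h2
      rw [map_mul, map_mul, map_mul, map_mul, map_mul, map_mul, hdi, mul_one,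
        hkill ⟨t, htK⟩ (Subtype.ext (by show t * t = 1; rw [ht]; exact hzz _ _)),
        hkill ⟨tc, htcK⟩ (Subtype.ext (by show tc * tc = 1; rw [htc]; exact hzz _ _)),
        hkill _ (Subtype.ext hwi)] at h3
      simpa using h3.symm
    rw [hs1, map_one, one_mul] at hMs
    calc w * tc * w = t * M * w * t := by
          rw [hM]
          calc w * tc * w = (t * t) * (w * tc * w) * t * (w * w) * t := by
                rw [ht, hzz, hwi]
                simp [mul_assoc, hzz]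
            _ = _ := by group
      _ = _ := by rw [hMs]
  -- the fixed circles
  obtain ⟨κ₀, hκ₀⟩ : ∃ κ₀ : F, ∀ a : Pt D, a.a ≠ 0 → (ψ a).a = κ₀ * (a.a / a.b) := by
    obtain ⟨t1, ht1⟩ := D.exists_trace_one
    let p1 : Pt D := ⟨1, t1, by rw [ht1, map_one, mul_one]⟩
    have hp1 : p1 ≠ 1 := fun e => one_ne_zero (congrArg Pt.a e)
    set y := ψ p1 with hy
    have hya : y.a ≠ 0 := fun e => one_ne_zero (by
      have := hψker y (hψne p1 hp1) e
      rwa [hy, hψinv p1 hp1] at this : (1 : F) = 0)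
    set l := Units.mk0 y.a hya with hl
    have hz : D.bar (y.b + D.bar (l : F) * (l : F) * t1) = y.b + D.bar (l : F) * (l : F) * t1 := by
      have := y.h
      rw [map_add, map_mul, map_mul, D.bar_bar, hl, Units.val_mk0]
      linear_combination this + (D.bar y.a * y.a) * ht1 - (y.b + D.bar y.a * y.a * t1) *
        (CharTwo.two_eq_zero : (2 : F) = 0) + (D.bar y.a * y.a) * (CharTwo.two_eq_zero : (2 : F) = 0)
    set zp := Pt.zc D _ hz with hzp
    set g := (h.U zp * B.del l)⁻¹ * w with hg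
    have hgp : g • B.P p1 = B.P p1 := by
      rw [hg, mul_smul, ← hψ p1 hp1, inv_smul_eq_iff, mul_smul, B.del_P, B.U_P]
      congr 1
      ext
      · simp [hzp, Pt.zc, p1, hl, ← hy]
      · simp only [Pt.mul_b, Pt.sca_b, hzp, Pt.zc, p1, ← hy, map_zero, zero_mul, add_zero]
        linear_combination -((D.bar (l : F) * (l : F) * t1) * (CharTwo.two_eq_zero : (2 : F) = 0))
    have hg1 : g ≠ 1 := fun e => by
      have h1 : w = h.U zp * B.del l := (inv_mul_eq_one.1 (hg ▸ e)).symm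
      have h2 := hwo
      rw [h1, mul_smul, B.del_o, h.U_o] at h2
      exact B.ne h2.symm
    have hgR : ∀ s, g * h.R s = h.R s * g := fun s => by
      have e1 : Commute (h.U zp * B.del l) (h.R s) :=
        Commute.mul_left (h.R_commute_Z (z := zp) rfl s).symm (B.comm_R (B.del_mem l) (B.del_p0 l) s)
      exact (Commute.inv_left e1).mul_left (hwR s)
    set v := h.U p1⁻¹ with hv
    set g2 := w * (v * g * v⁻¹) * w with hg2
    have hwinv : w⁻¹ = w := inv_eq_of_mul_eq_one_right hwi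
    have hg2o : g2 • h.o = h.o := by
      rw [hg2]
      simp only [mul_smul]
      rw [hwo, hv, map_inv, inv_inv, show h.U p1 • B.p0 = B.P p1 from rfl, hgp, Base.P, inv_smul_smul, hwp]
    have hg2f : ∀ s : D.R0, s ≠ 1 → g2 • B.P (ψ (xr s)) = B.P (ψ (xr s)) := fun s hs => by
      have e1 : p1⁻¹ * Pt.sca D (s : Fˣ) p1 = xr s := by
        ext
        · simp [xr, p1]
        · simp only [Pt.mul_b, Pt.inv_b, Pt.inv_a, Pt.sca_R0, Pt.sca_a, xr, p1, map_one]
          linear_combination ht1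
      have e2 : g • B.P (Pt.sca D (s : Fˣ) p1) = B.P (Pt.sca D (s : Fˣ) p1) := by
        rw [← B.del_P, B.del_R, ← mul_smul, hgR, mul_smul, hgp]
      have e3 : v • B.P (Pt.sca D (s : Fˣ) p1) = B.P (xr s) := by rw [hv, B.U_P, e1]
      rw [hψ _ (xr_ne hs), hg2]
      simp only [mul_smul]
      rw [← mul_smul w w, hwi, one_smul, ← e3, inv_smul_smul, e2]
    obtain ⟨s1, hs1, hs1r⟩ : ∃ s1 : D.R0, s1 ≠ 1 ∧ s1 ≠ r := by
      by_contra! hh
      have : Nat.card D.R0 ≤ 2 := by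
        refine (Nat.card_le_card_of_injective (fun s => decide (s = 1)) fun a b e => ?_).trans (by simp)
        simp only [decide_eq_decide] at e
        by_cases ha : a = 1
        · rw [ha, e.1 ha]
        · rw [hh a ha, hh b fun hb => ha (e.2 hb)]
      rw [D.card_R0] at this
      have := D.hq
      omega
    have hg2H := h.smul_o_iff.1 hg2o
    have hg2q : g2 ^ (D.q + 1) = 1 := by
      by_contra hne'
      refine h.fix_two hne' ?_ (Ne.symm (B.P_ne (ψ (xr r)))) (Ne.symm (B.P_ne (ψ (xr s1)))) (fun e => hs1r ?_)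
        (h.pow_fix hg2o _) (h.pow_fix (hg2f r hr) _) (h.pow_fix (hg2f s1 hs1) _)
      · rw [← pow_mul, mul_comm]
        exact h.pow_of_H hg2H (B.P_ne _) (hg2f r hr)
      · have := congrArg ψ (B.P_inj e)
        rw [hψinv _ (xr_ne hr), hψinv _ (xr_ne hs1)] at this
        exact (xr_inj this).symm
    have hg2ne : g2 ≠ 1 := fun e => hg1 (by
      calc g = v⁻¹ * w⁻¹ * g2 * w⁻¹ * v := by rw [hg2]; group
        _ = 1 := by rw [e, hwinv, mul_one, mul_assoc v⁻¹ w w, hwi, mul_one, inv_mul_cancel])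
    obtain ⟨b, ρ, hρ, hg2b, -, -⟩ := h.shift (h.mem_C_of_pow hg2H hg2q) hg2ne (B.P_ne _) (hg2f r hr)
    refine ⟨b.a, fun a ha => ?_⟩
    have hb0 : a.b ≠ 0 := fun e => ha (congrArg Pt.a (Pt.eq_one_of_b e))
    have ha1 : a ≠ 1 := fun e => ha (congrArg Pt.a e)
    set m' := Units.mk0 (D.bar a.a / D.bar a.b) (div_ne_zero ((map_ne_zero D.bar).2 ha) ((map_ne_zero D.bar).2 hb0))
      with hm'
    set L := D.bar a.a * a.a / D.bar a.b with hL
    have hbb : D.bar a.b ≠ 0 := (map_ne_zero D.bar).2 hb0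
    have hLn : D.bar (1 + L) * (1 + L) = 1 := by
      rw [hL, map_add, map_one, map_div₀, map_mul, D.bar_bar, D.bar_bar]
      field_simp
      linear_combination a.a * D.bar a.a * a.h + (a.a * D.bar a.a * (D.bar a.a * a.a)) *
        (CharTwo.two_eq_zero : (2 : F) = 0)
    have hL0 : 1 + L ≠ 0 := fun e => by simp [e] at hLn
    set s : D.R0 := ⟨Units.mk0 _ hL0, D.mem_R0.2 hLn⟩ with hs
    have hsne : s ≠ 1 := fun e => by
      have := congrArg (fun s : D.R0 => ((s : Fˣ) : F)) e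
      simp [hs, hL, ha, hbb] at this
    have hxs : Pt.sca D m' a = xr s := by
      ext
      · simp [hm', xr, hs, hL, ← add_assoc, Dat.add_self]
        field_simp
      · simp only [Pt.sca_b, hm', xr, hs, hL, Units.val_mk0, map_div₀, D.bar_bar, ← add_assoc, Dat.add_self,
          zero_add]
        field_simp
    have hfix := hg2f s hsne
    rw [hg2b, mul_smul, mul_smul, ← eq_inv_smul_iff, ← map_inv, B.U_P] at hfix
    have h0 := B.a_eq_zero hρ hfix
    rw [Pt.mul_a, Pt.inv_a] at h0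
    have hxa : (ψ (xr s)).a = b.a := (CharTwo.add_eq_zero.1 h0).symm
    rw [← hxs, hψsca _ _ ha1, Pt.sca_a] at hxa
    rw [← hxa, Units.val_inv_eq_inv_val]
    simp only [barU, Units.coe_map, MonoidHom.coe_coe, hm', Units.val_mk0, map_div₀, D.bar_bar]
    field_simp
  -- the functional equation
  have hmain : ∀ a : Pt D, a.a ≠ 0 → ψ a = Pt.flip a := by
    intro a ha
    have ha1 : a ≠ 1 := fun e => ha (congrArg Pt.a e)
    have hb0 : a.b ≠ 0 := fun e => ha (congrArg Pt.a (Pt.eq_one_of_b e))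
    have hψa : (ψ a).a ≠ 0 := fun e => ha (by
      have := hψker (ψ a) (hψne a ha1) e
      rwa [hψinv a ha1] at this)
    have hκ0 : κ₀ ≠ 0 := fun e => hψa (by rw [hκ₀ a ha, e, zero_mul])
    have hnf : ∀ c : F, D.bar c = c → a.b + c ≠ 0 := fun c hc e => ha (by
      have := a.h
      rw [CharTwo.add_eq_zero.1 e, hc, Dat.add_self, eq_comm, mul_eq_zero, map_eq_zero, or_self] at this
      exact this)
    have hnf2 : ∀ c : F, D.bar c = c → (ψ a).b + c ≠ 0 := fun c hc e => hψa (by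
      have := (ψ a).h
      rw [CharTwo.add_eq_zero.1 e, hc, Dat.add_self, eq_comm, mul_eq_zero, map_eq_zero, or_self] at this
      exact this)
    have heq : ∀ c : F, D.bar c = c → c ≠ 0 → κ₀ * (c * a.b + 1) = a.b * ((ψ a).b + c) := by
      intro c hc hc0
      have hci : D.bar c⁻¹ = c⁻¹ := by rw [map_inv₀, hc]
      have e := congrArg (fun g : G => g • B.P a) (hrel c hc hc0)
      simp only [mul_smul] at e
      have n1 : Pt.zc D c hc * ψ a ≠ 1 := fun e' => hψa (by
        have := congrArg Pt.a e'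
        simpa [Pt.zc] using this)
      have n2 : Pt.zc D c⁻¹ hci * a ≠ 1 := fun e' => ha (by
        have := congrArg Pt.a e'
        simpa [Pt.zc] using this)
      rw [← hψ a ha1, B.U_P, ← hψ _ n1, B.U_P, ← hψ _ n2, B.del_P, B.U_P] at e
      have e' := congrArg Pt.a (B.P_inj e)
      rw [hκ₀ (Pt.zc D c hc * ψ a) (by simpa [Pt.zc] using hψa)] at e'
      simp only [Pt.mul_a, Pt.sca_a] at e'
      rw [hκ₀ (Pt.zc D c⁻¹ hci * a) (by simpa [Pt.zc] using ha)] at e'
      simp only [Pt.mul_a, Pt.mul_b, hκ₀ a ha] at e'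
      simp only [Pt.zc, zero_add, map_zero, zero_mul, add_zero, Units.val_inv_eq_inv_val, Units.val_mk0] at e'
      have h1 := hnf2 c hc
      have h2 := hnf _ hci
      rw [add_comm] at h1 h2
      have h3 : (1 : F) + c * a.b ≠ 0 := fun e'' => h2 (by
        refine mul_left_cancel₀ hc0 ?_
        rw [mul_add, mul_inv_cancel₀ hc0, mul_zero, e''])
      field_simp at e'
      rw [eq_div_iff (by rwa [mul_comm a.b c])] at e'
      linear_combination e'
    obtain ⟨c, hc, hc0, hc1⟩ : ∃ c : F, D.bar c = c ∧ c ≠ 0 ∧ c ≠ 1 := by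
      by_contra! hh
      have : Nat.card {z : Pt D // z.a = 0} ≤ 2 := by
        refine (Nat.card_le_card_of_injective (fun z => decide (z.1.b = 0)) fun x y e => ?_).trans (by simp)
        simp only [decide_eq_decide] at e
        refine Subtype.ext (Pt.ext (x.2.trans y.2.symm) ?_)
        by_cases hx : x.1.b = 0
        · rw [hx, e.1 hx]
        · rw [hh _ (Pt.bar_b x.2) hx, hh _ (Pt.bar_b y.2) fun hy => hx (e.2 hy)]
      rw [card_ker_a] at this
      have := D.hq
      omega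
    have h1 := heq 1 (map_one _) one_ne_zero
    have h2 := heq c hc hc0
    have hk1 : κ₀ = 1 := by
      refine mul_right_cancel₀ (mul_ne_zero hb0 (sub_ne_zero.2 hc1)) ?_
      linear_combination h2 - h1
    ext
    · rw [hκ₀ a ha, hk1, one_mul]; rfl
    · show _ = 1 / a.b
      rw [hk1] at h1
      field_simp
      linear_combination -h1
  refine ⟨w, hw, hwo, fun a ha => ?_⟩
  rw [← hψ a ha]
  congr 1
  by_cases ha0 : a.a = 0
  · have hc := Pt.bar_b ha0
    have hb0 : a.b ≠ 0 := fun e => ha (Pt.eq_one_of_b e)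
    have e : a = Pt.zc D a.b hc := Pt.ext ha0 rfl
    conv_lhs => rw [e, hψzc _ hc hb0]
    ext <;> simp [Pt.zc, Pt.flip, ha0]
  · exact hmain a ha0

end

end Cfsg.Lib.UThreeEven.Hyp
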