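import Mathlib

/-!
# Involutions in the special linear group of degree two in characteristic two
-/

set_option autoImplicit false

namespace Cfsg.Lib.UThreeEven.SLTwo

universe u

variable {K : Type u} [Field K] [CharP K 2]

open Matrix

/-- The pair of equations describing a square root of one. -/
theorem trace_zero {t : SpecialLinearGroup (Fin 2) K} (h2 : t * t = 1) : t.1 0 0 = t.1 1 1 := by
  have h := congrArg (fun m : SpecialLinearGroup (Fin 2) K => m.1) h2
  have h00 := congrFun (congrFun h 0) 0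
  have h11 := congrFun (congrFun h 1) 1
  simp [Matrix.mul_apply, Fin.sum_univ_two] at h00 h11
  have : (t.1 0 0 + t.1 1 1) ^ 2 = 0 := by
    linear_combination h00 - h11 + (t.1 0 0 * t.1 1 1 + t.1 1 1 ^ 2) * (CharTwo.two_eq_zero : (2 : K) = 0)
  exact CharTwo.add_eq_zero.1 (pow_eq_zero_iff two_ne_zero |>.1 this)

theorem det_eq (t : SpecialLinearGroup (Fin 2) K) : t.1 0 0 * t.1 1 1 + t.1 0 1 * t.1 1 0 = 1 := by
  have h := t.2
  rw [Matrix.det_fin_two, CharTwo.sub_eq_add] at h
  exact h

theorem ext_four {s t : SpecialLinearGroup (Fin 2) K} (a : s.1 0 0 = t.1 0 0) (b : s.1 0 1 = t.1 0 1)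
    (c : s.1 1 0 = t.1 1 0) (d : s.1 1 1 = t.1 1 1) : s = t := by
  refine Subtype.ext (Matrix.ext fun i j => ?_)
  fin_cases i <;> fin_cases j <;> assumption

theorem nondiag {t : SpecialLinearGroup (Fin 2) K} (h2 : t * t = 1) (h1 : t ≠ 1) : t.1 0 1 ≠ 0 ∨ t.1 1 0 ≠ 0 := by
  by_contra! h
  have hd := det_eq t
  rw [h.1, h.2, mul_zero, add_zero, ← trace_zero h2] at hd
  have : t.1 0 0 = 1 := by
    have e : (t.1 0 0 + 1) ^ 2 = 0 := by
      linear_combination hd + (t.1 0 0 + 1) * (CharTwo.two_eq_zero : (2 : K) = 0)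
    exact CharTwo.add_eq_zero.1 (pow_eq_zero_iff two_ne_zero |>.1 e)
  exact h1 (ext_four (by simpa using this) (by simpa using h.1) (by simpa using h.2)
    (by rw [← trace_zero h2]; simpa using this))

theorem commute_entries {t m : SpecialLinearGroup (Fin 2) K} (h2 : t * t = 1) (hc : m * t = t * m) :
    t.1 0 1 * m.1 1 0 = t.1 1 0 * m.1 0 1 ∧ t.1 0 1 * (m.1 0 0 + m.1 1 1) = 0 ∧
      t.1 1 0 * (m.1 0 0 + m.1 1 1) = 0 := by
  have h := congrArg (fun m : SpecialLinearGroup (Fin 2) K => m.1) hc
  have a := congrFun (congrFun h 0) 0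
  have b := congrFun (congrFun h 0) 1
  have c := congrFun (congrFun h 1) 0
  have e := trace_zero h2
  simp [Matrix.mul_apply, Fin.sum_univ_two] at a b c
  rw [← e] at b c
  refine ⟨?_, ?_, ?_⟩
  · linear_combination -a
  · linear_combination b + (t.1 0 1 * m.1 1 1) * (CharTwo.two_eq_zero : (2 : K) = 0)
  · linear_combination c + (t.1 1 0 * m.1 0 0) * (CharTwo.two_eq_zero : (2 : K) = 0) -
      (0 : K) * (CharTwo.two_eq_zero : (2 : K) = 0)

/-- An element commuting with an involution squares to one. -/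
theorem sq_of_commute {t m : SpecialLinearGroup (Fin 2) K} (h2 : t * t = 1) (h1 : t ≠ 1) (hc : m * t = t * m) :
    m * m = 1 := by
  obtain ⟨-, hb, hb'⟩ := commute_entries h2 hc
  have e : m.1 0 0 = m.1 1 1 := by
    rcases nondiag h2 h1 with h | h
    · exact CharTwo.add_eq_zero.1 ((mul_eq_zero.1 hb).resolve_left h)
    · exact CharTwo.add_eq_zero.1 ((mul_eq_zero.1 hb').resolve_left h)
  have d := det_eq m
  refine ext_four ?_ ?_ ?_ ?_ <;> simp [Matrix.mul_apply, Fin.sum_univ_two, ← e] <;> rw [← e] at d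
  · linear_combination d
  · linear_combination (m.1 0 0 * m.1 0 1) * (CharTwo.two_eq_zero : (2 : K) = 0)
  · linear_combination (m.1 0 0 * m.1 1 0) * (CharTwo.two_eq_zero : (2 : K) = 0)
  · linear_combination d

variable [Fintype K]

theorem exists_sq (c : K) : ∃ s : K, s * s = c := by
  haveI : Fact (Nat.Prime 2) := ⟨Nat.prime_two⟩
  obtain ⟨s, hs⟩ := (PerfectRing.bijective_frobenius (R := K) (p := 2)).surjective c
  exact ⟨s, (sq s).symm.trans hs⟩

theorem sq_inj {a b : K} (h : a * a = b * b) : a = b := by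
  have e : (a + b) ^ 2 = 0 := by
    linear_combination h + (b * b + a * b) * (CharTwo.two_eq_zero : (2 : K) = 0)
  exact CharTwo.add_eq_zero.1 (pow_eq_zero_iff two_ne_zero |>.1 e)

/-- The element with equal diagonal entries and given off-diagonal entries. -/
noncomputable def mk (b c : K) : SpecialLinearGroup (Fin 2) K :=
  ⟨!![(exists_sq (1 + b * c)).choose, b; c, (exists_sq (1 + b * c)).choose], by
    rw [Matrix.det_fin_two_of, CharTwo.sub_eq_add, (exists_sq (1 + b * c)).choose_spec]
    linear_combination (b * c) * (CharTwo.two_eq_zero : (2 : K) = 0)⟩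

theorem mk_entries (b c : K) : (mk b c).1 0 1 = b ∧ (mk b c).1 1 0 = c ∧ (mk b c).1 0 0 = (mk b c).1 1 1 := by
  simp [mk]

theorem eq_mk {t : SpecialLinearGroup (Fin 2) K} (h : t.1 0 0 = t.1 1 1) : t = mk (t.1 0 1) (t.1 1 0) := by
  obtain ⟨h1, h2, h3⟩ := mk_entries (t.1 0 1) (t.1 1 0)
  have e : t.1 0 0 = (mk (t.1 0 1) (t.1 1 0)).1 0 0 := by
    refine sq_inj ?_
    have d := det_eq t
    have d' := det_eq (mk (t.1 0 1) (t.1 1 0))
    rw [← h] at d
    rw [h1, h2, ← h3] at d'
    linear_combination d - d'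
  exact ext_four e h1.symm h2.symm (by rw [← h, e, h3])

theorem mk_sq (b c : K) : mk b c * mk b c = 1 := by
  obtain ⟨h1, h2, h3⟩ := mk_entries b c
  have d := det_eq (mk b c)
  rw [h1, h2, ← h3] at d
  refine ext_four ?_ ?_ ?_ ?_ <;> simp [Matrix.mul_apply, Fin.sum_univ_two, h1, h2, ← h3]
  · linear_combination d
  · linear_combination ((mk b c).1 0 0 * b) * (CharTwo.two_eq_zero : (2 : K) = 0)
  · linear_combination ((mk b c).1 0 0 * c) * (CharTwo.two_eq_zero : (2 : K) = 0)
  · linear_combination d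

/-- There are `q²` square roots of one. -/
theorem card_sq_one : Nat.card {t : SpecialLinearGroup (Fin 2) K // t * t = 1} = Fintype.card K ^ 2 := by
  rw [sq, ← Fintype.card_prod, ← Nat.card_eq_fintype_card]
  exact Nat.card_congr
    { toFun := fun t => (t.1.1 0 1, t.1.1 1 0)
      invFun := fun p => ⟨mk p.1 p.2, mk_sq _ _⟩
      left_inv := fun t => Subtype.ext (eq_mk (trace_zero t.2)).symm
      right_inv := fun p => Prod.ext (mk_entries p.1 p.2).1 (mk_entries p.1 p.2).2.1 }

/-- The centraliser of an involution has as many elements as the field. -/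
theorem card_commute {t : SpecialLinearGroup (Fin 2) K} (h2 : t * t = 1) (h1 : t ≠ 1) :
    Nat.card {m : SpecialLinearGroup (Fin 2) K // m * t = t * m} = Fintype.card K := by
  rw [← Nat.card_eq_fintype_card]
  have hsym : ∀ b c : K, t.1 0 1 * c = t.1 1 0 * b → mk b c * t = t * mk b c := by
    intro b c e
    obtain ⟨e1, e2, e3⟩ := mk_entries b c
    have et := trace_zero h2
    refine ext_four ?_ ?_ ?_ ?_ <;> simp [Matrix.mul_apply, Fin.sum_univ_two, e1, e2, ← e3, ← et]
    · linear_combination -e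
    · ring
    · ring
    · linear_combination e
  have hd : ∀ m : {m : SpecialLinearGroup (Fin 2) K // m * t = t * m}, m.1.1 0 0 = m.1.1 1 1 := fun m =>
    trace_zero (sq_of_commute h2 h1 m.2)
  rcases nondiag h2 h1 with h | h
  · exact Nat.card_congr
      { toFun := fun m => m.1.1 0 1
        invFun := fun b => ⟨mk b (t.1 1 0 * b / t.1 0 1), hsym _ _ (by field_simp)⟩
        left_inv := fun m => Subtype.ext (by
          obtain ⟨e, -, -⟩ := commute_entries h2 m.2
          show mk (m.1.1 0 1) (t.1 1 0 * m.1.1 0 1 / t.1 0 1) = m.1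
          refine (congrArg (mk _) ?_).trans (eq_mk (hd m)).symm
          field_simp
          linear_combination -e)
        right_inv := fun b => (mk_entries b _).1 }
  · exact Nat.card_congr
      { toFun := fun m => m.1.1 1 0
        invFun := fun c => ⟨mk (t.1 0 1 * c / t.1 1 0) c, hsym _ _ (by field_simp)⟩
        left_inv := fun m => Subtype.ext (by
          obtain ⟨e, -, -⟩ := commute_entries h2 m.2
          show mk (t.1 0 1 * m.1.1 1 0 / t.1 1 0) (m.1.1 1 0) = m.1
          refine (congrArg (fun z => mk z _) ?_).trans (eq_mk (hd m)).symm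
          field_simp
          linear_combination e)
        right_inv := fun c => (mk_entries _ c).2.1 }

end Cfsg.Lib.UThreeEven.SLTwo
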