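import Cfsg.Agent.UnitaryThreeEven.Point
import Cfsg.Agent.UnitaryThreeEven.SLTwo
import Cfsg.Agent.S2202

/-!
# The centraliser of a norm one element fixing a second point
-/

set_option autoImplicit false
set_option linter.unusedSectionVars false

namespace Cfsg.Lib.UThreeEven.Hyp

universe u v

variable {F : Type u} [Field F] [Fintype F] [CharP F 2] {D : Dat F} {G : Type v} [Group G] [Finite G] (h : Hyp D G)

noncomputable section

/-- The centraliser of a norm one element. -/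
abbrev K (r : D.R0) : Subgroup G := Subgroup.centralizer {h.R r}

theorem R_mem_K (r s : D.R0) : h.R s ∈ h.K r := by
  rw [Subgroup.mem_centralizer_singleton_iff, ← map_mul, ← map_mul]
  exact congrArg h.R (Subtype.ext (mul_comm (s : Fˣ) r))

theorem isZ_mem_K {t : G} (ht : h.IsZ t) (r : D.R0) : t ∈ h.K r :=
  Subgroup.mem_centralizer_singleton_iff.2 (IsZ.commute h ht (h.R_mem_C r)).symm

/-- Inside the centraliser of a nontrivial norm one element, centralisers of involutions are abelian. -/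
theorem K_abelian {r : D.R0} (hr : r ≠ 1) {t : G} (ht : _root_.orderOf t = 2) (htK : t * h.R r = h.R r * t)
    {y z : G} (hy : y * h.R r = h.R r * y) (hz : z * h.R r = h.R r * z) (hyt : y * t = t * y)
    (hzt : z * t = t * z) : y * z = z * y := by
  obtain ⟨p, hp⟩ := h.exists_fix ht
  obtain ⟨g, rfl⟩ := h.exists_smul p
  have hrp : h.R r • (g • h.o) = g • h.o := by
    refine h.fix_unique ht ?_ hp
    rw [← mul_smul, htK, mul_smul, hp]
  have hd : (g⁻¹ * h.R r * g) ^ (D.q + 1) = 1 := by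
    rw [show g⁻¹ * h.R r * g = g⁻¹ * h.R r * g⁻¹⁻¹ by simp, conj_pow, ← map_pow, D.R0_pow, map_one]
    simp
  obtain ⟨b, s, hbs⟩ := h.exists_conj_R (h.mem_C_of_pow (h.conj_fix.1 hrp) hd) hd
  set c := g * h.U b with hc
  have hrc : c⁻¹ * h.R r * c = h.R s := by
    calc c⁻¹ * h.R r * c = (h.U b)⁻¹ * (g⁻¹ * h.R r * g) * h.U b := by rw [hc]; group
      _ = _ := by rw [hbs]; group
  have hs : s ≠ 1 := by
    intro e
    rw [e, map_one] at hrc
    refine hr (h.R_inj ?_)
    rw [map_one]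
    calc h.R r = c * (c⁻¹ * h.R r * c) * c⁻¹ := by group
      _ = 1 := by rw [hrc]; group
  have htc : h.IsZ (c⁻¹ * t * c) := h.isZ_conj_fix ht (by rw [hc, mul_smul, h.U_o, hp])
  have hconj : ∀ w : G, w * h.R r = h.R r * w → w * t = t * w →
      ∃ a σ, a.a = 0 ∧ c⁻¹ * w * c = h.U a * h.R σ := by
    intro w hw hwt
    refine h.comm_R ?_ hs ?_
    · rw [← h.cent_IsZ htc, Subgroup.mem_centralizer_singleton_iff]
      calc c⁻¹ * w * c * (c⁻¹ * t * c) = c⁻¹ * (w * t) * c := by group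
        _ = _ := by rw [hwt]; group
    · rw [← hrc]
      calc c⁻¹ * w * c * (c⁻¹ * h.R r * c) = c⁻¹ * (w * h.R r) * c := by group
        _ = _ := by rw [hw]; group
  obtain ⟨a, σ, ha, e1⟩ := hconj y hy hyt
  obtain ⟨a', σ', ha', e2⟩ := hconj z hz hzt
  have e3 : c⁻¹ * y * c * (c⁻¹ * z * c) = c⁻¹ * z * c * (c⁻¹ * y * c) := by
    rw [e1, e2, h.comm_special ha ha']
  calc y * z = c * (c⁻¹ * y * c * (c⁻¹ * z * c)) * c⁻¹ := by group
    _ = _ := by rw [e3]; group

/-- The centraliser of a norm one element fixing a second point: its odd direct factor and its set of fixed points. -/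
theorem key {r : D.R0} (hr : r ≠ 1) {p : h.Om} (hp : p ≠ h.o) (hrp : h.R r • p = p) :
    (∀ g : G, g * h.R r = h.R r * g → ∀ s : D.R0, g * h.R s = h.R s * g) ∧
      (∃ (A : Type) (_ : CommGroup A) (π : h.K r →* A), Odd (Nat.card A) ∧
        ∀ s : D.R0, π ⟨h.R s, h.R_mem_K r s⟩ = 1 → s = 1) ∧
      Nat.card {p : h.Om // h.R r • p = p} = D.q + 1 := by
  classical
  haveI : Fact (Nat.Prime 2) := ⟨Nat.prime_two⟩
  have hxK : h.x ∈ h.K r := h.isZ_mem_K h.isZ_x r
  obtain ⟨g, rfl⟩ := h.exists_smul p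
  have hgr : g⁻¹ * h.R r * g ∈ h.C := by
    refine h.mem_C_of_pow (h.conj_fix.1 hrp) ?_
    rw [show g⁻¹ * h.R r * g = g⁻¹ * h.R r * g⁻¹⁻¹ by simp, conj_pow, ← map_pow, D.R0_pow, map_one]
    simp
  set x' := g * h.x * g⁻¹ with hx'
  have hx'K : x' ∈ h.K r := by
    rw [Subgroup.mem_centralizer_singleton_iff, hx']
    have e := Subgroup.mem_centralizer_singleton_iff.1 hgr
    calc g * h.x * g⁻¹ * h.R r = g * (h.x * (g⁻¹ * h.R r * g)) * g⁻¹ := by group
      _ = _ := by rw [← e]; group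
  have hxo : _root_.orderOf (⟨h.x, hxK⟩ : h.K r) = 2 := by
    rw [← Subgroup.orderOf_coe]; exact h.orderOf_x
  have heven : Even (Nat.card (h.K r)) := even_iff_two_dvd.2 (hxo ▸ orderOf_dvd_natCard _)
  have hab : ∀ t : h.K r, _root_.orderOf t = 2 →
      IsMulCommutative ↥(Subgroup.centralizer ({t} : Set (h.K r))) := by
    intro t ht
    refine ⟨⟨fun y z => ?_⟩⟩
    have hy := congrArg Subtype.val (Subgroup.mem_centralizer_singleton_iff.1 y.2)
    have hz := congrArg Subtype.val (Subgroup.mem_centralizer_singleton_iff.1 z.2)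
    exact Subtype.ext (Subtype.ext (h.K_abelian hr (t := (t : G)) (by rw [Subgroup.orderOf_coe]; exact ht)
      (Subgroup.mem_centralizer_singleton_iff.1 t.2) (Subgroup.mem_centralizer_singleton_iff.1 y.1.2)
      (Subgroup.mem_centralizer_singleton_iff.1 z.1.2) hy hz))
  have hnc : ¬ ∀ P : Sylow 2 (h.K r), IsCyclic ↥P := by
    intro hcyc
    let Zs : Subgroup (h.K r) :=
      { carrier := {k | ∃ a : Pt D, a.a = 0 ∧ (k : G) = h.U a}
        mul_mem' := by
          rintro k l ⟨a, ha, e⟩ ⟨b, hb, e'⟩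
          exact ⟨a * b, by simp [ha, hb], by rw [map_mul, ← e, ← e']; rfl⟩
        one_mem' := ⟨1, rfl, by simp⟩
        inv_mem' := by
          rintro k ⟨a, ha, e⟩
          exact ⟨a⁻¹, ha, by rw [map_inv, ← e]; rfl⟩ }
    have hsq : ∀ k : Zs, k ^ 2 = 1 := by
      intro k
      obtain ⟨a, ha, e⟩ := k.2
      refine Subtype.ext (Subtype.ext ?_)
      show ((k : h.K r) : G) ^ 2 = 1
      rw [e, ← map_pow, ← map_one h.U, sq]
      congr 1
      ext <;> simp [ha, Dat.add_self]
    obtain ⟨P, hP⟩ := (show IsPGroup 2 Zs from fun k => ⟨1, by rw [pow_one]; exact hsq k⟩).exists_le_sylow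
    haveI := hcyc P
    haveI : IsCyclic Zs :=
      isCyclic_of_injective (Subgroup.inclusion hP) (Subgroup.inclusion_injective hP)
    haveI : Fintype Zs := Fintype.ofFinite _
    have h1 := IsCyclic.card_pow_eq_one_le (α := Zs) (n := 2) two_pos
    rw [Finset.filter_true_of_mem fun k _ => hsq k, Finset.card_univ, ← Nat.card_eq_fintype_card] at h1
    have h2 : Nat.card {t : G // h.IsZ t} ≤ Nat.card {k : Zs // k ≠ 1} :=
      Nat.card_le_card_of_injective (fun t => ⟨⟨⟨t.1, h.isZ_mem_K t.2 r⟩, t.2.2⟩, fun e => t.2.1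
        (congrArg (fun k : Zs => ((k : h.K r) : G)) e)⟩) fun a b e => Subtype.ext
          (congrArg (fun k : {k : Zs // k ≠ 1} => (((k : Zs) : h.K r) : G)) e)
    rw [h.card_IsZ] at h2
    have h3 : Nat.card {k : Zs // k ≠ 1} + 1 = Nat.card Zs := by
      rw [Nat.card_eq_fintype_card, Nat.card_eq_fintype_card, Fintype.card_subtype_compl, Fintype.card_subtype_eq]
      have : 0 < Fintype.card Zs := Fintype.card_pos
      omega
    have := D.hq
    omega
  have hnn : ¬ ∀ P : Sylow 2 (h.K r), (P : Subgroup (h.K r)).Normal := by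
    intro hn
    obtain ⟨P⟩ : Nonempty (Sylow 2 (h.K r)) := ⟨default⟩
    haveI := hn P
    haveI : Subsingleton (Sylow 2 (h.K r)) := by
      haveI := Sylow.unique_of_normal P (hn P)
      infer_instance
    have hmem : ∀ k : h.K r, k ^ 2 = 1 → k ∈ (P : Subgroup (h.K r)) := by
      intro k hk
      have hz : IsPGroup 2 (Subgroup.zpowers k) := by
        obtain ⟨j, -, hj⟩ := (Nat.dvd_prime_pow Nat.prime_two).1 (orderOf_dvd_of_pow_eq_one
          (show k ^ 2 ^ 1 = 1 by rwa [pow_one]))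
        exact IsPGroup.of_card (n := j) (by rw [Nat.card_zpowers, hj])
      obtain ⟨Q, hQ⟩ := hz.exists_le_sylow
      exact Subsingleton.elim P Q ▸ hQ (Subgroup.mem_zpowers k)
    have hsq : ∀ y : G, _root_.orderOf y = 2 → (hy : y ∈ h.K r) → (⟨y, hy⟩ : h.K r) ∈ (P : Subgroup (h.K r)) :=
      fun y hy hyK => hmem _ (Subtype.ext (show y ^ 2 = 1 by rw [← hy, pow_orderOf_eq_one]))
    have hx'o : _root_.orderOf x' = 2 := by
      rw [hx', show g * h.x * g⁻¹ = MulAut.conj g h.x from rfl, MulEquiv.orderOf_eq, h.orderOf_x]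
    set P' := (P : Subgroup (h.K r)).map (h.K r).subtype with hP'
    have h2 : IsPGroup 2 P' := P.isPGroup'.map _
    haveI : Nontrivial P' := ⟨⟨⟨h.x, Subgroup.mem_map_of_mem _ (hsq h.x h.orderOf_x hxK)⟩, 1,
      fun e => h.x_ne (congrArg Subtype.val e)⟩⟩
    haveI := h2.center_nontrivial
    obtain ⟨z, hz2⟩ : ∃ z : Subgroup.center P', _root_.orderOf z = 2 := by
      refine exists_prime_orderOf_dvd_card' 2 ?_
      obtain ⟨k, hk⟩ := (h2.to_subgroup (Subgroup.center P')).exists_card_eq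
      rw [hk]
      refine dvd_pow_self 2 fun e => ?_
      rw [e, pow_zero] at hk
      exact (Finite.one_lt_card (α := Subgroup.center P')).ne' hk
    have hz3 : _root_.orderOf ((z : P') : G) = 2 := by
      rw [Subgroup.orderOf_coe, Subgroup.orderOf_coe, hz2]
    have hc : ∀ y : P', (y : G) * ((z : P') : G) = ((z : P') : G) * (y : G) := fun y =>
      congrArg Subtype.val (Subgroup.mem_center_iff.1 z.2 y)
    have hzC : ((z : P') : G) ∈ h.C := Subgroup.mem_centralizer_singleton_iff.2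
      (hc ⟨h.x, Subgroup.mem_map_of_mem _ (hsq h.x h.orderOf_x hxK)⟩).symm
    have hx'C : x' ∈ h.C := by
      rw [← h.cent_IsZ (h.isZ_of_mem_C hz3 hzC), Subgroup.mem_centralizer_singleton_iff]
      exact hc ⟨x', Subgroup.mem_map_of_mem _ (hsq x' hx'o hx'K)⟩
    refine hp (h.eq_o_of_fix (h.isZ_of_mem_C hx'o hx'C) ?_)
    rw [hx', mul_smul, mul_smul, inv_smul_smul, h.C_o (g := h.x) (h.U_mem_C _)]
  obtain hcy | hnor | ⟨F', i1, i2, A, i3, i4, hchar, hA, ⟨φ⟩⟩ :=
    Cfsg.Agent.S2202.result (G := h.K r) heven hab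
  · exact absurd hcy hnc
  · exact absurd hnor hnn
  haveI := hchar
  set fs := (MonoidHom.fst (Matrix.SpecialLinearGroup (Fin 2) F') A).comp φ.toMonoidHom with hfs
  set π := (MonoidHom.snd (Matrix.SpecialLinearGroup (Fin 2) F') A).comp φ.toMonoidHom with hπ
  have hext : ∀ k : h.K r, fs k = 1 → π k = 1 → k = 1 := fun k e1 e2 =>
    φ.injective (by rw [map_one]; exact Prod.ext e1 e2)
  have hπsq : ∀ k : h.K r, k * k = 1 → π k = 1 := by
    intro k hk
    have e : π k ^ 2 = 1 := by rw [sq, ← map_mul, hk, map_one]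
    refine orderOf_eq_one_iff.1 (Nat.eq_one_of_dvd_coprimes ?_ (orderOf_dvd_of_pow_eq_one e) (orderOf_dvd_natCard _))
    exact Nat.coprime_two_left.2 hA
  have hx2 : (⟨h.x, hxK⟩ : h.K r) * ⟨h.x, hxK⟩ = 1 := by
    rw [← sq, ← hxo, pow_orderOf_eq_one]
  set t := fs ⟨h.x, hxK⟩ with ht
  have ht2 : t * t = 1 := by rw [ht, ← map_mul, hx2, map_one]
  have ht1 : t ≠ 1 := fun e => h.x_ne (congrArg Subtype.val (hext _ e (hπsq _ hx2)))
  have hRx : ∀ s : D.R0, fs ⟨h.R s, h.R_mem_K r s⟩ = 1 := by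
    intro s
    set m := fs ⟨h.R s, h.R_mem_K r s⟩ with hm
    have e : m * t = t * m := by
      rw [hm, ht, ← map_mul, ← map_mul]
      exact congrArg fs (Subtype.ext (IsZ.commute h h.isZ_x (h.R_mem_C s)))
    have e2 := SLTwo.sq_of_commute ht2 ht1 e
    have e3 : m ^ (D.q + 1) = 1 := by
      rw [hm, ← map_pow, show (⟨h.R s, h.R_mem_K r s⟩ : h.K r) ^ (D.q + 1) = 1 from Subtype.ext (by
        simp [← map_pow, D.R0_pow]), map_one]
    obtain ⟨k, hk⟩ := D.q_even
    rwa [hk, ← two_mul, pow_succ, pow_mul, sq, e2, one_pow, one_mul] at e3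
  refine ⟨fun y hy s => ?_, ⟨A, i3, π, hA, fun s e => ?_⟩, ?_⟩
  · have e : (⟨y, Subgroup.mem_centralizer_singleton_iff.2 hy⟩ : h.K r) * ⟨h.R s, h.R_mem_K r s⟩ =
        ⟨h.R s, h.R_mem_K r s⟩ * ⟨y, Subgroup.mem_centralizer_singleton_iff.2 hy⟩ := by
      refine φ.injective ?_
      rw [map_mul, map_mul]
      refine Prod.ext ?_ (mul_comm _ _)
      show fs _ * fs _ = fs _ * fs _
      rw [hRx, mul_one, one_mul]
    exact congrArg Subtype.val e
  · exact h.R_inj (by rw [map_one]; exact congrArg Subtype.val (hext _ (hRx s) e))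
  -- the size of the field
  have hπinj : Function.Injective fun s : D.R0 => π ⟨h.R s, h.R_mem_K r s⟩ := fun s s' e => by
    have e' : π ⟨h.R (s * s'⁻¹), h.R_mem_K r _⟩ = 1 := by
      rw [show (⟨h.R (s * s'⁻¹), h.R_mem_K r _⟩ : h.K r) = ⟨h.R s, h.R_mem_K r s⟩ * ⟨h.R s', h.R_mem_K r s'⟩⁻¹ from
        Subtype.ext (by simp), map_mul, map_inv, mul_inv_eq_one]
      exact e
    exact mul_inv_eq_one.1 (h.R_inj (by rw [map_one]; exact congrArg Subtype.val (hext _ (hRx _) e')))
  let e0 : {k : h.K r // (k : G) * h.x = h.x * k} ≃ {a : Pt D // a.a = 0} × D.R0 :=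
    (Equiv.ofBijective (fun w : {a : Pt D // a.a = 0} × D.R0 => (⟨⟨h.U w.1.1 * h.R w.2, by
        rw [Subgroup.mem_centralizer_singleton_iff]
        have := h.comm_special (a := w.1.1) (b := 1) w.1.2 rfl w.2 r
        simpa using this⟩,
      Subgroup.mem_centralizer_singleton_iff.1 (h.mem_C.2 ⟨_, _, rfl⟩)⟩ : {k : h.K r // (k : G) * h.x = h.x * k}))
      ⟨fun w w' e => by
        have := h.eq_of_form (congrArg (fun k : {k : h.K r // (k : G) * h.x = h.x * k} => ((k : h.K r) : G)) e)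
        exact Prod.ext (Subtype.ext this.1) this.2, fun k => by
        obtain ⟨a, s, ha, e⟩ := h.comm_R (Subgroup.mem_centralizer_singleton_iff.2 k.2) hr
          (Subgroup.mem_centralizer_singleton_iff.1 k.1.2)
        exact ⟨(⟨a, ha⟩, s), Subtype.ext (Subtype.ext e.symm)⟩⟩).symm
  have hq : Nat.card {a : Pt D // a.a = 0} = D.q := by
    haveI : Fintype {a : Pt D // a.a = 0} := Fintype.ofFinite _
    have h1 : Nat.card {a : {a : Pt D // a.a = 0} // a ≠ ⟨1, rfl⟩} = D.q - 1 := by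
      rw [← h.card_IsZ]
      refine Nat.card_eq_of_bijective (fun a => ⟨h.U a.1.1, fun e => a.2 (Subtype.ext
        (h.U_inj (e.trans (map_one _).symm))), a.1.1, a.1.2, rfl⟩) ⟨fun a b e => Subtype.ext (Subtype.ext
        (h.U_inj (congrArg Subtype.val e))), fun s => ?_⟩
      obtain ⟨a, ha, e⟩ := s.2.2
      exact ⟨⟨⟨a, ha⟩, fun e1 => s.2.1 (by
        rw [e, show a = 1 from congrArg Subtype.val e1, map_one])⟩, Subtype.ext e.symm⟩
    rw [Nat.card_eq_fintype_card, Fintype.card_subtype_compl, Fintype.card_subtype_eq] at h1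
    have h2 : 0 < Fintype.card {a : Pt D // a.a = 0} := Fintype.card_pos_iff.2 ⟨⟨1, rfl⟩⟩
    rw [Nat.card_eq_fintype_card]
    have := D.hq
    omega
  haveI : Fintype F' := i2
  have hcent : Nat.card {k : h.K r // (k : G) * h.x = h.x * k} = Fintype.card F' * Nat.card A := by
    rw [← SLTwo.card_commute ht2 ht1, ← Nat.card_prod]
    refine Nat.card_congr ((φ.toEquiv.subtypeEquiv (p := fun k : h.K r => (k : G) * h.x = h.x * k)
      (q := fun w => w.1 * t = t * w.1) fun k => ?_).trans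
      { toFun := fun w => (⟨w.1.1, w.2⟩, w.1.2)
        invFun := fun w => ⟨(w.1.1, w.2), w.1.2⟩
        left_inv := fun w => rfl
        right_inv := fun w => rfl })
    constructor
    · intro e
      show fs k * t = t * fs k
      rw [ht, ← map_mul, ← map_mul]
      exact congrArg fs (Subtype.ext e)
    · intro e
      refine congrArg Subtype.val (φ.injective ?_ : k * ⟨h.x, hxK⟩ = ⟨h.x, hxK⟩ * k)
      rw [map_mul, map_mul]
      exact Prod.ext e (mul_comm _ _)
  rw [Nat.card_congr e0, Nat.card_prod, hq, D.card_R0] at hcent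
  have hAle : D.q + 1 ≤ Nat.card A := D.card_R0 ▸ Nat.card_le_card_of_injective _ hπinj
  have hAeq : Nat.card A ≤ D.q + 1 := by
    rw [← D.card_R0]
    refine Nat.card_le_card_of_surjective (fun s : D.R0 => π ⟨h.R s, h.R_mem_K r s⟩) fun α => ?_
    obtain ⟨k, hk⟩ := φ.surjective ((1 : Matrix.SpecialLinearGroup (Fin 2) F'), α)
    have hkc : (k : G) * h.x = h.x * k := by
      refine congrArg Subtype.val (φ.injective ?_ : k * ⟨h.x, hxK⟩ = ⟨h.x, hxK⟩ * k)
      rw [map_mul, map_mul, hk]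
      exact Prod.ext (by simp) (mul_comm _ _)
    obtain ⟨⟨⟨a, ha⟩, s⟩, hs⟩ := e0.symm.surjective ⟨k, hkc⟩
    have hua : h.U a ∈ h.K r := by
      rw [Subgroup.mem_centralizer_singleton_iff]
      simpa using h.comm_special (a := a) (b := 1) ha rfl 1 r
    have hk' : k = ⟨h.U a, hua⟩ * ⟨h.R s, h.R_mem_K r s⟩ := by
      rw [← show (e0.symm (⟨a, ha⟩, s) : h.K r) = k from congrArg Subtype.val hs]
      exact Subtype.ext rfl
    refine ⟨s, ?_⟩
    have hsq : (⟨h.U a, hua⟩ : h.K r) * ⟨h.U a, hua⟩ = 1 := Subtype.ext (by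
      show h.U a * h.U a = 1
      rw [← map_mul, ← map_one h.U]
      congr 1
      ext <;> simp [ha, Dat.add_self])
    show π _ = α
    rw [← show π k = α from congrArg Prod.snd hk, hk', map_mul, hπsq _ hsq, one_mul]
  have hF' : Fintype.card F' = D.q := by
    rw [le_antisymm hAeq hAle] at hcent
    exact (Nat.eq_of_mul_eq_mul_right (Nat.succ_pos _) hcent).symm
  -- involutions of the centraliser and fixed points
  haveI : Fintype {p : h.Om // h.R r • p = p} := Fintype.ofFinite _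
  let Inv := {k : h.K r // k * k = 1 ∧ k ≠ 1}
  have hInv : Nat.card Inv + 1 = D.q ^ 2 := by
    rw [← hF', ← SLTwo.card_sq_one (K := F')]
    have e : Inv ≃ {s : {s : Matrix.SpecialLinearGroup (Fin 2) F' // s * s = 1} // s ≠ ⟨1, one_mul 1⟩} :=
      { toFun := fun k => ⟨⟨fs k.1, by rw [← map_mul, k.2.1, map_one]⟩,
          fun e => k.2.2 (hext _ (congrArg Subtype.val e) (hπsq _ k.2.1))⟩
        invFun := fun s => ⟨φ.symm (s.1.1, 1), by rw [← map_mul, Prod.mk_mul_mk, s.1.2, one_mul]; exact map_one φ.symm,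
          fun e => s.2 (Subtype.ext (congrArg Prod.fst ((φ.symm_apply_eq.1 e).trans (map_one φ))))⟩
        left_inv := fun k => Subtype.ext (φ.injective (by
          rw [MulEquiv.apply_symm_apply]
          exact Prod.ext rfl (hπsq _ k.2.1).symm))
        right_inv := fun s => Subtype.ext (Subtype.ext (congrArg Prod.fst (φ.apply_symm_apply (s.1.1, 1)))) }
    haveI : Fintype {s : Matrix.SpecialLinearGroup (Fin 2) F' // s * s = 1} := Fintype.ofFinite _
    rw [Nat.card_congr e, Nat.card_eq_fintype_card, Nat.card_eq_fintype_card, Fintype.card_subtype_compl,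
      Fintype.card_subtype_eq]
    have : 0 < Fintype.card {s : Matrix.SpecialLinearGroup (Fin 2) F' // s * s = 1} :=
      Fintype.card_pos_iff.2 ⟨⟨1, one_mul 1⟩⟩
    omega
  have hord : ∀ k : Inv, _root_.orderOf ((k.1 : h.K r) : G) = 2 := fun k => by
    rw [Subgroup.orderOf_coe]
    exact orderOf_eq_prime (by rw [sq]; exact k.2.1) k.2.2
  let f : Inv → {p : h.Om // h.R r • p = p} := fun k => ⟨(h.exists_fix (hord k)).choose, by
    refine h.fix_unique (hord k) ?_ (h.exists_fix (hord k)).choose_spec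
    rw [← mul_smul, Subgroup.mem_centralizer_singleton_iff.1 k.1.2, mul_smul, (h.exists_fix (hord k)).choose_spec]⟩
  have hfib : ∀ c : {p : h.Om // h.R r • p = p}, Nat.card {k : Inv // f k = c} = D.q - 1 := by
    rintro ⟨c, hc⟩
    obtain ⟨g', rfl⟩ := h.exists_smul c
    have hgr' : g'⁻¹ * h.R r * g' ∈ h.C := by
      refine h.mem_C_of_pow (h.conj_fix.1 hc) ?_
      rw [show g'⁻¹ * h.R r * g' = g'⁻¹ * h.R r * g'⁻¹⁻¹ by simp, conj_pow, ← map_pow, D.R0_pow, map_one]
      simp
    have hin : ∀ s : {s : G // h.IsZ s}, g' * s.1 * g'⁻¹ ∈ h.K r := fun s => by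
      rw [Subgroup.mem_centralizer_singleton_iff]
      have e := IsZ.commute h s.2 hgr'
      calc g' * s.1 * g'⁻¹ * h.R r = g' * (s.1 * (g'⁻¹ * h.R r * g')) * g'⁻¹ := by group
        _ = _ := by rw [← e]; group
    have hio : ∀ s : {s : G // h.IsZ s}, _root_.orderOf (g' * s.1 * g'⁻¹) = 2 := fun s => by
      rw [show g' * s.1 * g'⁻¹ = MulAut.conj g' s.1 from rfl, MulEquiv.orderOf_eq, s.2.orderOf]
    have hk2 : ∀ s : {s : G // h.IsZ s}, (⟨_, hin s⟩ : h.K r) * ⟨_, hin s⟩ = 1 ∧ (⟨_, hin s⟩ : h.K r) ≠ 1 := fun s =>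
      ⟨Subtype.ext (by show _ * _ = (1 : G); rw [← sq, ← hio s, pow_orderOf_eq_one]), fun e => by
        have := hio s
        rw [show g' * s.1 * g'⁻¹ = 1 from congrArg Subtype.val e, orderOf_one] at this
        omega⟩
    have hfx : ∀ s : {s : G // h.IsZ s}, f ⟨⟨_, hin s⟩, hk2 s⟩ = ⟨g' • h.o, hc⟩ := fun s => Subtype.ext
      (h.fix_unique (hio s) (h.exists_fix (hord ⟨⟨_, hin s⟩, hk2 s⟩)).choose_spec
        (by rw [← mul_smul, inv_mul_cancel_right, mul_smul, h.smul_o_iff.2 s.2.mem_H]))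
    rw [← h.card_IsZ]
    refine (Nat.card_eq_of_bijective (fun s => (⟨⟨⟨_, hin s⟩, hk2 s⟩, hfx s⟩ : {k : Inv // f k = _}))
      ⟨fun s s' e => Subtype.ext ?_, fun k => ?_⟩).symm
    · have := congrArg (fun k : {k : Inv // f k = ⟨g' • h.o, hc⟩} => ((k.1.1 : h.K r) : G)) e
      exact mul_left_cancel (mul_right_cancel this)
    · have hk : ((k.1.1 : h.K r) : G) • (g' • h.o) = g' • h.o := by
        have e : (h.exists_fix (hord k.1)).choose = g' • h.o := congrArg Subtype.val k.2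
        calc ((k.1.1 : h.K r) : G) • (g' • h.o) = ((k.1.1 : h.K r) : G) • (h.exists_fix (hord k.1)).choose :=
            congrArg (fun z : h.Om => ((k.1.1 : h.K r) : G) • z) e.symm
          _ = (h.exists_fix (hord k.1)).choose := (h.exists_fix (hord k.1)).choose_spec
          _ = _ := e
      refine ⟨⟨g'⁻¹ * ((k.1.1 : h.K r) : G) * g', h.isZ_conj_fix (hord k.1) hk⟩, ?_⟩
      refine Subtype.ext (Subtype.ext (Subtype.ext ?_))
      show g' * (g'⁻¹ * ((k.1.1 : h.K r) : G) * g') * g'⁻¹ = _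
      group
  have hsum : Nat.card Inv = Nat.card {p : h.Om // h.R r • p = p} * (D.q - 1) := by
    rw [Nat.card_congr (Equiv.sigmaFiberEquiv f).symm, Nat.card_sigma, Finset.sum_congr rfl fun c _ => hfib c,
      Finset.sum_const, Finset.card_univ, Nat.card_eq_fintype_card (α := {p : h.Om // h.R r • p = p}), smul_eq_mul]
  have h1 : Nat.card {p : h.Om // h.R r • p = p} * (D.q - 1) = (D.q + 1) * (D.q - 1) := by
    rw [← hsum, ← D.q_sq_sub_one]
    omega
  exact Nat.eq_of_mul_eq_mul_right (by have := D.hq; omega) h1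

end

end Cfsg.Lib.UThreeEven.Hyp
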