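import Cfsg.Agent.UnitaryThreeEven.Key

/-!
# Stabilisers of two points, and double transitivity

Counting the involutions that exchange two points shows that each pair has exactly `q - 1` of them; from this every two
point stabiliser meets the centraliser in a group of order `q + 1`, and the group is doubly transitive.
-/

set_option autoImplicit false
set_option linter.unusedSectionVars false

namespace Cfsg.Lib.UThreeEven.Hyp

universe u v

variable {F : Type u} [Field F] [Fintype F] [CharP F 2] {D : Dat F} {G : Type v} [Group G] [Finite G] (h : Hyp D G)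

noncomputable section

theorem one_add_ne {r : D.R0} (hr : r ≠ 1) : (1 : F) + ((r : Fˣ) : F) ≠ 0 := fun e =>
  hr (Subtype.ext (Units.ext (CharTwo.add_eq_zero.1 e).symm))

theorem eq_one_of_pows {M : Type*} [Monoid M] {d : M} (h1 : d ^ (D.q + 1) = 1) (h2 : d ^ (D.q - 1) = 1) : d = 1 := by
  have := pow_gcd_eq_one.2 ⟨h1, h2⟩
  rwa [D.coprime_add_sub, pow_one] at this

theorem eq_one_of_sq {M : Type*} [Monoid M] {d : M} {m : ℕ} (hm : Odd m) (h1 : d ^ m = 1) (h2 : d * d = 1) :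
    d = 1 := by
  obtain ⟨k, rfl⟩ := hm
  rwa [pow_succ, pow_mul, sq, h2, one_pow, one_mul] at h1

theorem odd_succ : Odd (D.q + 1) := D.q_even.add_one

theorem odd_pred : Odd (D.q - 1) := Nat.Even.sub_odd (by have := D.hq; omega) D.q_even odd_one

theorem R_commute_Z {z : Pt D} (hz : z.a = 0) (s : D.R0) : h.R s * h.U z = h.U z * h.R s := by
  simpa using h.comm_special (a := 1) (b := z) rfl hz s 1

/-- A norm one element fixing a second point fixes it together with all norm one elements. -/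
theorem R_fix_all {r : D.R0} (hr : r ≠ 1) {p : h.Om} (hp : p ≠ h.o) (hrp : h.R r • p = p) (s : D.R0) :
    h.R s • p = p := by
  obtain ⟨hc, -, -⟩ := h.key hr hp hrp
  obtain ⟨g, rfl⟩ := h.exists_smul p
  have hgr : g⁻¹ * h.R r * g ∈ h.C := by
    refine h.mem_C_of_pow (h.conj_fix.1 hrp) ?_
    rw [show g⁻¹ * h.R r * g = g⁻¹ * h.R r * g⁻¹⁻¹ by simp, conj_pow, ← map_pow, D.R0_pow, map_one]
    simp
  have e : g * h.x * g⁻¹ * h.R r = h.R r * (g * h.x * g⁻¹) := by
    have := IsZ.commute h h.isZ_x hgr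
    calc g * h.x * g⁻¹ * h.R r = g * (h.x * (g⁻¹ * h.R r * g)) * g⁻¹ := by group
      _ = _ := by rw [← this]; group
  have hf : (g * h.x * g⁻¹) • (g • h.o) = g • h.o := by
    rw [mul_smul, mul_smul, inv_smul_smul, h.C_o (g := h.x) (h.U_mem_C _)]
  refine h.fix_unique ?_ ?_ hf
  · rw [show g * h.x * g⁻¹ = MulAut.conj g h.x from rfl, MulEquiv.orderOf_eq, h.orderOf_x]
  · rw [← mul_smul, hc _ e s, mul_smul, hf]

theorem card_ker_a : Nat.card {a : Pt D // a.a = 0} = D.q := by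
  have e : {a : Pt D // a.a = 0} ≃ {b : F // b + D.bar b = 0} :=
    { toFun := fun a => ⟨a.1.b, by rw [a.1.h, a.2, map_zero, zero_mul]⟩
      invFun := fun b => ⟨⟨0, b.1, by rw [b.2, map_zero, zero_mul]⟩, rfl⟩
      left_inv := fun a => Subtype.ext (Pt.ext a.2.symm rfl)
      right_inv := fun b => rfl }
  have e2 : {b : F // b + D.bar b = 0} ≃ {b : F // D.bar b = b} :=
    Equiv.subtypeEquivRight fun b => CharTwo.add_eq_zero.trans eq_comm
  rw [Nat.card_congr (e.trans e2)]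
  set f := (D.bar : F →+* F).toAddMonoidHom + AddMonoidHom.id F with hf
  have hker : ∀ c, c ∈ f.ker ↔ D.bar c = c := fun c => CharTwo.add_eq_zero
  have hrange : ∀ c, c ∈ f.range ↔ c ∈ f.ker := by
    intro c
    rw [hker]
    constructor
    · rintro ⟨y, rfl⟩
      show D.bar (D.bar y + y) = D.bar y + y
      rw [map_add, D.bar_bar, add_comm]
    · intro hc
      obtain ⟨y, hy⟩ := D.exists_trace hc
      exact ⟨y, show D.bar y + y = c by rw [add_comm, hy]⟩
  have h1 := f.ker.card_mul_index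
  rw [AddSubgroup.index_ker, AddSubgroup.ext hrange, Nat.card_eq_fintype_card (α := F), D.hF, sq] at h1
  rw [← Nat.mul_self_inj.1 h1]
  exact (Nat.card_congr (Equiv.subtypeEquivRight hker)).symm

/-- The other fixed points of the norm one group form an orbit of the centre of the root group. -/
theorem fix_orbit {r : D.R0} (hr : r ≠ 1) {p p' : h.Om} (hp : p ≠ h.o) (hp' : p' ≠ h.o) (hrp : h.R r • p = p)
    (hrp' : h.R r • p' = p') : ∃ z : Pt D, z.a = 0 ∧ h.U z • p = p' := by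
  classical
  obtain ⟨-, -, hcard⟩ := h.key hr hp hrp
  let T := {q : {q : h.Om // h.R r • q = q} // q.1 ≠ h.o}
  haveI : Fintype {q : h.Om // h.R r • q = q} := Fintype.ofFinite _
  have hT : Nat.card T ≤ D.q := by
    have e : T ≃ {q : {q : h.Om // h.R r • q = q} // q ≠ ⟨h.o, h.C_o (h.R_mem_C r)⟩} :=
      Equiv.subtypeEquivRight fun q => not_congr Subtype.coe_eq_iff |>.trans (by
        constructor
        · intro hh e; exact hh ⟨h.C_o (h.R_mem_C r), e⟩
        · intro hh ⟨_, e⟩; exact hh e)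
    rw [Nat.card_congr e, Nat.card_eq_fintype_card, Fintype.card_subtype_compl, Fintype.card_subtype_eq,
      ← Nat.card_eq_fintype_card, hcard]
    omega
  let f : {a : Pt D // a.a = 0} → T := fun a => ⟨⟨h.U a.1 • p, by
      rw [← mul_smul, h.R_commute_Z a.2, mul_smul, hrp]⟩, fun e =>
      hp ((smul_left_cancel _ (e.trans (h.U_o a.1).symm)))⟩
  have hf : Function.Injective f := fun a b e => by
    have e' : h.U a.1 • p = h.U b.1 • p := congrArg (fun t : T => (t.1 : h.Om)) e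
    have := h.U_semireg hp (a := b.1⁻¹ * a.1) (by rw [map_mul, map_inv]; exact h.smul_eq_iff.1 e')
    exact Subtype.ext (inv_mul_eq_one.1 this).symm
  haveI : Finite T := Subtype.finite
  have hb := (Nat.bijective_iff_injective_and_card f).2 ⟨hf, le_antisymm (Nat.card_le_card_of_injective f hf)
    ((card_ker_a (D := D)).symm ▸ hT)⟩
  obtain ⟨a, ha⟩ := hb.2 ⟨⟨p', hrp'⟩, hp'⟩
  exact ⟨a.1, a.2, congrArg (fun t : T => (t.1 : h.Om)) ha⟩

/-- The elements of the centraliser fixing a second point fixed by the norm one group lie in that group. -/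
theorem L_eq {r : D.R0} (hr : r ≠ 1) {p : h.Om} (hp : p ≠ h.o) (hrp : h.R r • p = p) {d : G} (hd : d ∈ h.C)
    (hdp : d • p = p) : ∃ s, d = h.R s := by
  obtain ⟨b, s, rfl⟩ := h.exists_conj_R hd (h.pow_of_C hd hp hdp)
  by_cases hs : s = 1
  · exact ⟨1, by rw [hs, map_one, mul_one, mul_inv_cancel]⟩
  refine ⟨s, ?_⟩
  set p' := (h.U b)⁻¹ • p with hp'
  have h1 : h.R s • p' = p' := by
    rw [hp', eq_inv_smul_iff, ← mul_smul, ← mul_smul, hdp]
  have h2 : p' ≠ h.o := fun e => hp (by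
    rw [← smul_inv_smul (h.U b) p, ← hp', e, h.U_o])
  have h3 := h.R_fix_all hs h2 h1 r
  obtain ⟨z, hz, hzp⟩ := h.fix_orbit hr hp h2 hrp h3
  have h4 : h.U (b * z) • p = p := by rw [map_mul, mul_smul, hzp, hp', smul_inv_smul]
  obtain rfl : z = b⁻¹ := eq_inv_of_mul_eq_one_right (h.U_semireg hp h4)
  have hb : b.a = 0 := hz
  rw [← h.R_commute_Z hb, mul_inv_cancel_right]

/-- An element of the centraliser fixing a second point, brought into the norm one group. -/
theorem shift {d : G} (hd : d ∈ h.C) (hd1 : d ≠ 1) {p : h.Om} (hp : p ≠ h.o) (hdp : d • p = p) :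
    ∃ b r, r ≠ 1 ∧ d = h.U b * h.R r * (h.U b)⁻¹ ∧ (h.U b)⁻¹ • p ≠ h.o ∧
      h.R r • ((h.U b)⁻¹ • p) = (h.U b)⁻¹ • p := by
  obtain ⟨b, r, rfl⟩ := h.exists_conj_R hd (h.pow_of_C hd hp hdp)
  refine ⟨b, r, fun e => hd1 (by rw [e, map_one, mul_one, mul_inv_cancel]), rfl, fun e => hp ?_, ?_⟩
  · rw [← smul_inv_smul (h.U b) p, e, h.U_o]
  · rw [eq_inv_smul_iff, ← mul_smul, ← mul_smul, hdp]

theorem orderOf_mul_conj {t g : G} (ht : _root_.orderOf t = 2) : _root_.orderOf (g * t * g⁻¹) = 2 := by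
  rw [show g * t * g⁻¹ = MulAut.conj g t from rfl, MulEquiv.orderOf_eq, ht]

theorem invol_mul_self {t : G} (ht : _root_.orderOf t = 2) : t * t = 1 := by
  rw [← sq, ← ht, pow_orderOf_eq_one]

/-- An involution exchanging the base point with a point fixed by the norm one group and centralising it. -/
theorem exists_swap_R {r : D.R0} (hr : r ≠ 1) {p : h.Om} (hp : p ≠ h.o) (hrp : h.R r • p = p) :
    ∃ w : G, _root_.orderOf w = 2 ∧ w • h.o = p ∧ ∀ s, w * h.R s = h.R s * w := by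
  classical
  obtain ⟨hc, -, hcard⟩ := h.key hr hp hrp
  haveI : Fintype {q : h.Om // h.R r • q = q} := Fintype.ofFinite _
  obtain ⟨⟨c, hrc⟩, hc1, hc2⟩ : ∃ c : {q : h.Om // h.R r • q = q}, c.1 ≠ h.o ∧ c.1 ≠ p := by
    by_contra! hh
    have : Nat.card {q : h.Om // h.R r • q = q} ≤ 2 := by
      refine (Nat.card_le_card_of_injective (fun q => decide (q.1 = h.o)) fun a b e => ?_).trans (by simp)
      simp only [decide_eq_decide] at e
      by_cases ha : a.1 = h.o
      · exact Subtype.ext (ha.trans (e.1 ha).symm)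
      · exact Subtype.ext ((hh a ha).trans (hh b (fun hb => ha (e.2 hb))).symm)
    have := D.hq
    omega
  obtain ⟨g, rfl⟩ := h.exists_smul c
  have hgr : g⁻¹ * h.R r * g ∈ h.C := by
    refine h.mem_C_of_pow (h.conj_fix.1 hrc) ?_
    rw [show g⁻¹ * h.R r * g = g⁻¹ * h.R r * g⁻¹⁻¹ by simp, conj_pow, ← map_pow, D.R0_pow, map_one]
    simp
  have hcm : ∀ t : {t : G // h.IsZ t}, g * t.1 * g⁻¹ * h.R r = h.R r * (g * t.1 * g⁻¹) := by
    intro t
    have := IsZ.commute h t.2 hgr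
    calc g * t.1 * g⁻¹ * h.R r = g * (t.1 * (g⁻¹ * h.R r * g)) * g⁻¹ := by group
      _ = _ := by rw [← this]; group
  have hgc : ∀ t : {t : G // h.IsZ t}, (g * t.1 * g⁻¹) • (g • h.o) = g • h.o := fun t => by
    rw [mul_smul, mul_smul, inv_smul_smul, h.smul_o_iff.2 t.2.mem_H]
  let T := {q : {q : {q : h.Om // h.R r • q = q} // q ≠ ⟨h.o, h.C_o (h.R_mem_C r)⟩} //
    q ≠ ⟨⟨g • h.o, hrc⟩, fun e => hc1 (congrArg Subtype.val e)⟩}
  have hT : Nat.card T = D.q - 1 := by
    rw [Nat.card_eq_fintype_card, Fintype.card_subtype_compl, Fintype.card_subtype_eq, Fintype.card_subtype_compl,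
      Fintype.card_subtype_eq, ← Nat.card_eq_fintype_card, hcard]
    omega
  let f : {t : G // h.IsZ t} → T := fun t => ⟨⟨⟨(g * t.1 * g⁻¹) • h.o, by
      rw [← mul_smul, ← hcm, mul_smul, h.C_o (h.R_mem_C r)]⟩, fun e =>
      hc1 (h.fix_unique (orderOf_mul_conj t.2.orderOf) (hgc t) (congrArg Subtype.val e))⟩, fun e =>
      hc1 (smul_left_cancel (g * t.1 * g⁻¹) ((hgc t).trans
        (congrArg (fun q : {q : {q : h.Om // h.R r • q = q} // q ≠ ⟨h.o, h.C_o (h.R_mem_C r)⟩} => q.1.1) e).symm))⟩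
  have hf : Function.Injective f := fun t t' e => by
    have e' : (g * t.1 * g⁻¹) • h.o = (g * t'.1 * g⁻¹) • h.o := congrArg (fun q : T => q.1.1.1) e
    obtain ⟨-, a, ha, hta⟩ := t.2
    obtain ⟨-, a', ha', hta'⟩ := t'.2
    have h5 : h.U (a'⁻¹ * a) • (g⁻¹ • h.o) = g⁻¹ • h.o := by
      rw [map_mul, map_inv, ← hta, ← hta']
      refine h.smul_eq_iff.1 (smul_left_cancel g ?_)
      rw [← mul_smul, ← mul_smul, ← mul_smul, ← mul_smul]
      exact e'
    have := h.U_semireg (fun e => hc1 ((smul_eq_iff_eq_inv_smul g).2 e.symm)) h5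
    exact Subtype.ext (by rw [hta, hta', inv_mul_eq_one.1 this])
  haveI : Finite T := Subtype.finite
  obtain ⟨t, ht⟩ := ((Nat.bijective_iff_injective_and_card f).2 ⟨hf, by rw [h.card_IsZ, hT]⟩).2
    ⟨⟨⟨p, hrp⟩, fun e => hp (congrArg Subtype.val e)⟩, fun e =>
      hc2 (congrArg (fun q : {q : {q : h.Om // h.R r • q = q} // q ≠ ⟨h.o, h.C_o (h.R_mem_C r)⟩} => q.1.1) e).symm⟩
  exact ⟨_, orderOf_mul_conj t.2.orderOf, congrArg (fun q : T => q.1.1.1) ht, hc _ (hcm t)⟩

theorem swap_back {w : G} (hw : _root_.orderOf w = 2) {p : h.Om} (hwp : w • h.o = p) : w • p = h.o := by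
  rw [← hwp, ← mul_smul, invol_mul_self hw, one_smul]

/-- A swapper centralises the elements of the centraliser fixing both points. -/
theorem swap_comm {w : G} (hw : _root_.orderOf w = 2) {p : h.Om} (hp : p ≠ h.o) (hwp : w • h.o = p) {d : G}
    (hd : d ∈ h.C) (hdp : d • p = p) : w * d = d * w := by
  by_cases hd1 : d = 1
  · simp [hd1]
  obtain ⟨b, r, hr, rfl, hp', hrp⟩ := h.shift hd hd1 hp hdp
  set p' := (h.U b)⁻¹ • p with hpd
  set w' := (h.U b)⁻¹ * w * h.U b with hw'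
  have hwo : w' • h.o = p' := by rw [hw', mul_smul, mul_smul, h.U_o, hwp]
  have hw2 : _root_.orderOf w' = 2 := by
    rw [hw', show (h.U b)⁻¹ * w * h.U b = (h.U b)⁻¹ * w * (h.U b)⁻¹⁻¹ by simp]
    exact orderOf_mul_conj hw
  have hsr : w' * h.R r = h.R r * w' := by
    obtain ⟨w0, hw0, hw0o, hw0c⟩ := h.exists_swap_R hr hp' hrp
    set e := w0 * w' with he
    have heo : e • h.o = h.o := by rw [he, mul_smul, hwo, h.swap_back hw0 hw0o]
    have hep : e • p' = p' := by rw [he, mul_smul, h.swap_back hw2 hwo, hw0o]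
    have hwe : w' = w0 * e := by rw [he, ← mul_assoc, invol_mul_self hw0, one_mul]
    -- conjugation by the odd element `e` squares to one on the norm one group
    have hnorm : ∀ s, ∃ s', e * h.R s * e⁻¹ = h.R s' := fun s => by
      refine h.L_eq hr hp' hrp (h.conj_C (h.smul_o_iff.1 heo) (h.R_mem_C s)) ?_
      rw [mul_smul, mul_smul, h.inv_fix hep, h.R_fix_all hr hp' hrp s, hep]
    have hsame : ∀ s, w' * h.R s * w'⁻¹ = e * h.R s * e⁻¹ := by
      intro s
      obtain ⟨s', hs'⟩ := hnorm s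
      calc w' * h.R s * w'⁻¹ = w0 * (e * h.R s * e⁻¹) * w0⁻¹ := by rw [hwe]; group
        _ = _ := by rw [hs', hw0c]; group
    have h2 : e ^ 2 * h.R r * (e ^ 2)⁻¹ = h.R r := by
      obtain ⟨s', hs'⟩ := hnorm r
      calc e ^ 2 * h.R r * (e ^ 2)⁻¹ = e * (e * h.R r * e⁻¹) * e⁻¹ := by rw [sq]; group
        _ = w' * (e * h.R r * e⁻¹) * w'⁻¹ := by rw [hs', hsame]
        _ = (w' * w') * h.R r * (w' * w')⁻¹ := by rw [← hsame]; group
        _ = h.R r := by rw [invol_mul_self hw2]; group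
    have hodd : Nat.Coprime 2 (_root_.orderOf e) :=
      Nat.Coprime.coprime_dvd_right (orderOf_dvd_of_pow_eq_one (h.pow_of_H (h.smul_o_iff.1 heo) hp' hep))
        (Nat.coprime_two_left.2 (odd_pred.mul odd_succ))
    obtain ⟨k, hk⟩ := exists_pow_eq_self_of_coprime hodd
    have h4 : Commute (e ^ 2) (h.R r) := mul_inv_eq_iff_eq_mul.1 h2
    have h3 : Commute e (h.R r) := hk ▸ h4.pow_left k
    have := hsame r
    rw [h3.eq, mul_inv_cancel_right] at this
    exact mul_inv_eq_iff_eq_mul.1 this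
  calc w * (h.U b * h.R r * (h.U b)⁻¹) = h.U b * (w' * h.R r) * (h.U b)⁻¹ := by rw [hw']; group
    _ = _ := by rw [hsr, hw']; group

theorem swap_mul {w : G} (hw : _root_.orderOf w = 2) {p : h.Om} (hp : p ≠ h.o) (hwp : w • h.o = p) {d : G}
    (hdH : d ∈ h.H) (hinv : w * d * w = d⁻¹) : _root_.orderOf (w * d) = 2 ∧ (w * d) • h.o = p := by
  have e : (w * d) • h.o = p := by rw [mul_smul, h.smul_o_iff.2 hdH, hwp]
  refine ⟨orderOf_eq_prime (by rw [sq, ← mul_assoc, hinv, inv_mul_cancel]) fun e1 => hp ?_, e⟩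
  rw [← e, e1, one_smul]

/-- An element inverted by a swapper centralises the elements of the centraliser fixing both points. -/
theorem inv_comm {w : G} (hw : _root_.orderOf w = 2) {p : h.Om} (hp : p ≠ h.o) (hwp : w • h.o = p) {d : G}
    (hdH : d ∈ h.H) (hinv : w * d * w = d⁻¹) {l : G} (hl : l ∈ h.C) (hlp : l • p = p) : d * l = l * d := by
  obtain ⟨h1, h2⟩ := h.swap_mul hw hp hwp hdH hinv
  have e1 := h.swap_comm hw hp hwp hl hlp
  have e2 := h.swap_comm h1 hp h2 hl hlp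
  rw [← mul_assoc l w d, ← e1, mul_assoc, mul_assoc] at e2
  exact mul_left_cancel e2

/-- Inverted elements are determined by the conjugate of the distinguished involution. -/
theorem inv_inj {w : G} (hw : _root_.orderOf w = 2) {p : h.Om} (hp : p ≠ h.o) (hwp : w • h.o = p) {d d' : G}
    (hdH : d ∈ h.H) (hdp : d • p = p) (hdH' : d' ∈ h.H) (hdp' : d' • p = p) (hinv : w * d * w = d⁻¹)
    (hinv' : w * d' * w = d'⁻¹) (e : d * h.x * d⁻¹ = d' * h.x * d'⁻¹) : d = d' := by
  set l := d⁻¹ * d' with hl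
  have hlC : l ∈ h.C := by
    rw [C, Subgroup.mem_centralizer_singleton_iff, hl]
    calc d⁻¹ * d' * h.x = d⁻¹ * (d' * h.x * d'⁻¹) * d' := by group
      _ = _ := by rw [← e]; group
  have hlp : l • p = p := by rw [hl, mul_smul, hdp', h.inv_fix hdp]
  have e1 := h.swap_comm hw hp hwp hlC hlp
  have e2 := h.inv_comm hw hp hwp hdH hinv hlC hlp
  have hd' : d' = d * l := by rw [hl, mul_inv_cancel_left]
  have h2 : l * l = 1 := by
    have : w * d * w * l = l⁻¹ * d⁻¹ := by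
      rw [← mul_inv_rev, ← hd', ← hinv', hd', mul_assoc _ w l, e1]
      group
    rw [hinv] at this
    have h3 : d⁻¹ * l = l * d⁻¹ := (Commute.inv_left e2).eq
    rw [h3] at this
    exact mul_eq_one_iff_eq_inv.2 (mul_right_cancel this)
  rw [hd', eq_one_of_sq odd_succ (h.pow_of_C hlC hp hlp) h2, mul_one]

/-- The inverted part of a two point stabiliser. -/
abbrev Inv (w : G) (p : h.Om) : Type v := {d : G // d ∈ h.H ∧ d • p = p ∧ w * d * w = d⁻¹}

theorem card_Inv_le {w : G} (hw : _root_.orderOf w = 2) {p : h.Om} (hp : p ≠ h.o) (hwp : w • h.o = p) :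
    Nat.card (h.Inv w p) ≤ D.q - 1 := by
  rw [← h.card_IsZ]
  exact Nat.card_le_card_of_injective (fun d => ⟨d.1 * h.x * d.1⁻¹, h.conj_isZ d.2.1 h.isZ_x⟩) fun a b e =>
    Subtype.ext (h.inv_inj hw hp hwp a.2.1 a.2.2.1 b.2.1 b.2.2.1 a.2.2.2 b.2.2.2 (congrArg Subtype.val e))

/-- The involutions exchanging the base point and `p`. -/
abbrev Sw (p : h.Om) : Type v := {t : G // _root_.orderOf t = 2 ∧ t • h.o = p}

theorem card_Sw_le_Inv {w : G} (hw : _root_.orderOf w = 2) {p : h.Om} (hwp : w • h.o = p) :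
    Nat.card (h.Sw p) ≤ Nat.card (h.Inv w p) := by
  refine Nat.card_le_card_of_injective (fun t => (⟨w * t.1, ?_, ?_, ?_⟩ : h.Inv w p))
    fun a b e => Subtype.ext (mul_left_cancel (congrArg Subtype.val e))
  · exact h.smul_o_iff.1 (by rw [mul_smul, t.2.2, h.swap_back hw hwp])
  · rw [mul_smul, h.swap_back t.2.1 t.2.2, hwp]
  · rw [mul_inv_rev, inv_eq_of_mul_eq_one_right (invol_mul_self t.2.1),
      inv_eq_of_mul_eq_one_right (invol_mul_self hw), ← mul_assoc w w, invol_mul_self hw, one_mul]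

/-- Every pair has exactly `q - 1` swappers. -/
theorem card_Sw {p : h.Om} (hp : p ≠ h.o) : Nat.card (h.Sw p) = D.q - 1 := by
  classical
  haveI : Fintype h.Om := Fintype.ofFinite _
  have hle : ∀ q : h.Om, q ≠ h.o → Nat.card (h.Sw q) ≤ D.q - 1 := by
    intro q hq
    rcases isEmpty_or_nonempty (h.Sw q) with he | ⟨⟨w, hw, hwq⟩⟩
    · rw [Nat.card_of_isEmpty]; exact Nat.zero_le _
    · exact (h.card_Sw_le_Inv hw hwq).trans (h.card_Inv_le hw hq hwq)
  have ho : Nat.card (h.Sw h.o) = D.q - 1 := by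
    rw [← h.card_IsZ]
    exact Nat.card_congr (Equiv.subtypeEquivRight fun t =>
      ⟨fun ht => h.isZ_of_mem_H ht.1 (h.smul_o_iff.1 ht.2), fun ht => ⟨ht.orderOf, h.smul_o_iff.2 ht.mem_H⟩⟩)
  let Iv := {t : G // _root_.orderOf t = 2}
  let f : Iv → h.Om := fun t => (h.exists_fix t.2).choose
  have hfib : ∀ c, Nat.card {t : Iv // f t = c} = D.q - 1 := by
    intro c
    obtain ⟨g, rfl⟩ := h.exists_smul c
    have hgc : ∀ t : {t : G // h.IsZ t}, (g * t.1 * g⁻¹) • (g • h.o) = g • h.o := fun t => by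
      rw [mul_smul, mul_smul, inv_smul_smul, h.smul_o_iff.2 t.2.mem_H]
    rw [← h.card_IsZ]
    refine (Nat.card_eq_of_bijective (fun t : {t : G // h.IsZ t} =>
      (⟨⟨g * t.1 * g⁻¹, orderOf_mul_conj t.2.orderOf⟩, h.fix_unique (orderOf_mul_conj t.2.orderOf)
        (h.exists_fix (orderOf_mul_conj t.2.orderOf)).choose_spec (hgc t)⟩ : {t : Iv // f t = g • h.o}))
      ⟨fun a b e => Subtype.ext (mul_left_cancel (mul_right_cancel
        (congrArg (fun t : {t : Iv // f t = g • h.o} => t.1.1) e))), fun t => ?_⟩).symm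
    have hk : t.1.1 • (g • h.o) = g • h.o := by
      calc t.1.1 • (g • h.o) = t.1.1 • f t.1 := congrArg (fun z : h.Om => t.1.1 • z) t.2.symm
        _ = f t.1 := (h.exists_fix t.1.2).choose_spec
        _ = _ := t.2
    refine ⟨⟨g⁻¹ * t.1.1 * g, h.isZ_conj_fix t.1.2 hk⟩, Subtype.ext (Subtype.ext ?_)⟩
    show g * (g⁻¹ * t.1.1 * g) * g⁻¹ = _
    group
  have h1 : Nat.card Iv = ∑ c : h.Om, Nat.card {t : Iv // f t = c} := by
    rw [Nat.card_congr (Equiv.sigmaFiberEquiv f).symm, Nat.card_sigma]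
  have h2 : Nat.card Iv = ∑ c : h.Om, Nat.card (h.Sw c) := by
    rw [← Nat.card_sigma]
    exact Nat.card_congr
      { toFun := fun t => ⟨t.1 • h.o, t.1, t.2, rfl⟩
        invFun := fun s => ⟨s.2.1, s.2.2.1⟩
        left_inv := fun t => rfl
        right_inv := fun ⟨c, t, ht, hc⟩ => by subst hc; rfl }
  refine (Finset.sum_eq_sum_iff_of_le (f := fun c => Nat.card (h.Sw c)) (g := fun _ => D.q - 1) (fun c _ => ?_)).1
    ?_ p (Finset.mem_univ p)
  · by_cases hc : c = h.o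
    · rw [hc, ho]
    · exact hle c hc
  · rw [← h2, h1]
    exact Finset.sum_congr rfl fun c _ => hfib c

theorem exists_swap {p : h.Om} (hp : p ≠ h.o) : ∃ w : G, _root_.orderOf w = 2 ∧ w • h.o = p := by
  have h1 := h.card_Sw hp
  have : 0 < Nat.card (h.Sw p) := by rw [h1]; have := D.hq; omega
  obtain ⟨⟨w, hw⟩⟩ := (Nat.card_pos_iff.1 this).1
  exact ⟨w, hw⟩

/-- Every conjugation class modulo the centraliser contains an inverted element. -/
theorem decomp {w : G} (hw : _root_.orderOf w = 2) {p : h.Om} (hp : p ≠ h.o) (hwp : w • h.o = p) {d : G}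
    (hdH : d ∈ h.H) (hdp : d • p = p) :
    ∃ e l, e ∈ h.H ∧ e • p = p ∧ w * e * w = e⁻¹ ∧ l ∈ h.C ∧ l • p = p ∧ d = e * l := by
  classical
  let f : h.Inv w p → {t : G // h.IsZ t} := fun d => ⟨d.1 * h.x * d.1⁻¹, h.conj_isZ d.2.1 h.isZ_x⟩
  have hf : Function.Injective f := fun a b e =>
    Subtype.ext (h.inv_inj hw hp hwp a.2.1 a.2.2.1 b.2.1 b.2.2.1 a.2.2.2 b.2.2.2 (congrArg Subtype.val e))
  have hc : Nat.card (h.Inv w p) = Nat.card {t : G // h.IsZ t} := le_antisymm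
    (Nat.card_le_card_of_injective f hf) (by
      rw [h.card_IsZ, ← h.card_Sw hp]; exact h.card_Sw_le_Inv hw hwp)
  obtain ⟨⟨e, heH, hep, heinv⟩, he⟩ := ((Nat.bijective_iff_injective_and_card f).2 ⟨hf, hc⟩).2
    ⟨d * h.x * d⁻¹, h.conj_isZ hdH h.isZ_x⟩
  refine ⟨e, e⁻¹ * d, heH, hep, heinv, ?_, by rw [mul_smul, hdp, h.inv_fix hep], by group⟩
  have he' : e * h.x * e⁻¹ = d * h.x * d⁻¹ := congrArg Subtype.val he
  rw [C, Subgroup.mem_centralizer_singleton_iff]
  calc e⁻¹ * d * h.x = e⁻¹ * (d * h.x * d⁻¹) * d := by group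
    _ = _ := by rw [← he']; group

theorem invol_conj_pow {w e : G} (hw : _root_.orderOf w = 2) (hinv : w * e * w = e⁻¹) (k : ℕ) :
    w * e ^ k * w = (e ^ k)⁻¹ := by
  have hwi : w⁻¹ = w := inv_eq_of_mul_eq_one_right (invol_mul_self hw)
  calc w * e ^ k * w = (w * e * w⁻¹) ^ k := by rw [conj_pow, hwi]
    _ = _ := by rw [hwi, hinv, inv_pow]

/-- An inverted element has order dividing `q - 1`. -/
theorem inv_pow_pred {w : G} (hw : _root_.orderOf w = 2) {p : h.Om} (hp : p ≠ h.o) (hwp : w • h.o = p) {e : G}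
    (heH : e ∈ h.H) (hep : e • p = p) (hinv : w * e * w = e⁻¹) : e ^ (D.q - 1) = 1 := by
  have hC := h.pow_pred_mem_C heH
  have hfp := h.pow_fix hep (D.q - 1)
  have e1 := h.swap_comm hw hp hwp hC hfp
  have e2 := invol_conj_pow hw hinv (D.q - 1)
  rw [e1, mul_assoc, invol_mul_self hw, mul_one] at e2
  exact eq_one_of_sq odd_succ (h.pow_of_C hC hp hfp) (mul_eq_one_iff_eq_inv.2 e2)

/-- An element of order dividing `q - 1` fixing two points is inverted by their swappers. -/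
theorem pred_inverted {w : G} (hw : _root_.orderOf w = 2) {p : h.Om} (hp : p ≠ h.o) (hwp : w • h.o = p) {d : G}
    (hdH : d ∈ h.H) (hdp : d • p = p) (hd : d ^ (D.q - 1) = 1) : w * d * w = d⁻¹ := by
  obtain ⟨e, l, heH, hep, hinv, hl, hlp, rfl⟩ := h.decomp hw hp hwp hdH hdp
  have hcm : Commute e l := h.inv_comm hw hp hwp heH hinv hl hlp
  rw [hcm.mul_pow, h.inv_pow_pred hw hp hwp heH hep hinv, one_mul] at hd
  rw [eq_one_of_pows (h.pow_of_C hl hp hlp) hd, mul_one, hinv]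

include h in
theorem not_commute_invol {e t : G} (he1 : e ≠ 1) (he : e ^ (D.q - 1) = 1) (ht : _root_.orderOf t = 2)
    (hc : e * t = t * e) : False := by
  obtain ⟨p, hp⟩ := h.exists_fix ht
  obtain ⟨g, rfl⟩ := h.exists_smul p
  have htz := h.isZ_conj_fix ht hp
  have hC : g⁻¹ * e * g ∈ h.C := by
    rw [← h.cent_IsZ htz, Subgroup.mem_centralizer_singleton_iff]
    calc g⁻¹ * e * g * (g⁻¹ * t * g) = g⁻¹ * (e * t) * g := by group
      _ = _ := by rw [hc]; group
  have hpred : (g⁻¹ * e * g) ^ (D.q - 1) = 1 := by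
    rw [show g⁻¹ * e * g = g⁻¹ * e * g⁻¹⁻¹ by simp, conj_pow, he]
    simp
  obtain ⟨a, ha⟩ := h.pow_qsucc hC
  have h4 : ((g⁻¹ * e * g) ^ (D.q + 1)) ^ 4 = 1 := by rw [← ha, ← map_pow, Pt.pow_four, map_one]
  have h5 : ((g⁻¹ * e * g) ^ (D.q + 1)) ^ (D.q - 1) = 1 := by rw [← pow_mul, mul_comm, pow_mul, hpred, one_pow]
  have h6 := pow_gcd_eq_one.2 ⟨h4, h5⟩
  rw [show Nat.gcd 4 (D.q - 1) = 1 from
    Nat.Coprime.pow_left 2 (Nat.coprime_two_left.2 odd_pred : Nat.Coprime 2 (D.q - 1)), pow_one] at h6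
  have := eq_one_of_pows h6 hpred
  exact he1 (by
    calc e = g * (g⁻¹ * e * g) * g⁻¹ := by group
      _ = 1 := by rw [this]; group)

/-- A nontrivial element of order dividing `q - 1` fixes at most two points. -/
theorem fix_two {e : G} (he1 : e ≠ 1) (he : e ^ (D.q - 1) = 1) {a b c : h.Om} (hab : a ≠ b) (hac : a ≠ c)
    (hbc : b ≠ c) (ha : e • a = a) (hb : e • b = b) (hc : e • c = c) : False := by
  have hswap : ∀ p q : h.Om, e • p = p → e • q = q → p ≠ q →
      ∃ w : G, _root_.orderOf w = 2 ∧ w • p = q ∧ w * e * w = e⁻¹ := by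
    intro p q hpf hqf hpq
    obtain ⟨g, rfl⟩ := h.exists_smul p
    have hq' : g⁻¹ • q ≠ h.o := fun e' => hpq (inv_smul_eq_iff.1 e').symm
    obtain ⟨w, hw, hwq⟩ := h.exists_swap hq'
    have hinv := h.pred_inverted hw hq' hwq (h.conj_fix.1 hpf)
      (by rw [mul_smul, mul_smul, smul_inv_smul, hqf])
      (by rw [show g⁻¹ * e * g = g⁻¹ * e * g⁻¹⁻¹ by simp, conj_pow, he]; simp)
    refine ⟨g * w * g⁻¹, orderOf_mul_conj hw, by rw [mul_smul, mul_smul, inv_smul_smul, hwq, smul_inv_smul], ?_⟩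
    calc g * w * g⁻¹ * e * (g * w * g⁻¹) = g * (w * (g⁻¹ * e * g) * w) * g⁻¹ := by group
      _ = _ := by rw [hinv]; group
  let Ce := Subgroup.centralizer ({e} : Set G)
  have hnorm : ∀ w : G, _root_.orderOf w = 2 → w * e * w = e⁻¹ → ∀ k ∈ Ce, w * k * w ∈ Ce := by
    intro w hw hinv k hk
    have hk' : k * e = e * k := Subgroup.mem_centralizer_singleton_iff.1 hk
    have hwi : w⁻¹ = w := inv_eq_of_mul_eq_one_right (invol_mul_self hw)
    have hwe : w * e⁻¹ * w = e := by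
      calc w * e⁻¹ * w = (w⁻¹ * e * w⁻¹)⁻¹ := by group
        _ = _ := by rw [hwi, hinv, inv_inv]
    rw [Subgroup.mem_centralizer_singleton_iff]
    have hke : k * e⁻¹ = e⁻¹ * k := (Commute.inv_right (hk' : Commute k e)).eq
    have f1 : w * k * w * (w * e⁻¹ * w) = w * (k * e⁻¹) * w := by
      calc w * k * w * (w * e⁻¹ * w) = w * k * (w * w) * e⁻¹ * w := by group
        _ = _ := by rw [invol_mul_self hw]; group
    have f2 : w * e⁻¹ * w * (w * k * w) = w * (e⁻¹ * k) * w := by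
      calc w * e⁻¹ * w * (w * k * w) = w * e⁻¹ * (w * w) * k * w := by group
        _ = _ := by rw [invol_mul_self hw]; group
    calc w * k * w * e = w * k * w * (w * e⁻¹ * w) := by rw [hwe]
      _ = w * e⁻¹ * w * (w * k * w) := by rw [f1, f2, hke]
      _ = _ := by rw [hwe]
  have horb : ∀ p q : h.Om, e • p = p → e • q = q → p ≠ q → ∀ k ∈ Ce, k • p ≠ q := by
    intro p q hpf hqf hpq k hk hkq
    obtain ⟨w, hw, hwq, hinv⟩ := hswap p q hpf hqf hpq
    haveI : Fintype (MulAction.orbit Ce p) := Fintype.ofFinite _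
    have hmap : ∀ y ∈ MulAction.orbit Ce p, w • y ∈ MulAction.orbit Ce p := by
      rintro _ ⟨m, rfl⟩
      refine ⟨⟨_, mul_mem (hnorm w hw hinv m m.2) hk⟩, ?_⟩
      show (w * (m : G) * w * k) • p = w • ((m : G) • p)
      rw [mul_smul, hkq, mul_smul, mul_smul, ← hwq, ← mul_smul w w, invol_mul_self hw, one_smul]
    haveI : Fact (Nat.Prime 2) := ⟨Nat.prime_two⟩
    let σ : Equiv.Perm (MulAction.orbit Ce p) :=
      { toFun := fun y => ⟨w • y.1, hmap _ y.2⟩
        invFun := fun y => ⟨w • y.1, hmap _ y.2⟩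
        left_inv := fun y => Subtype.ext (by simp only; rw [← mul_smul, invol_mul_self hw, one_smul])
        right_inv := fun y => Subtype.ext (by simp only; rw [← mul_smul, invol_mul_self hw, one_smul]) }
    have hσ : σ ^ 2 ^ 1 = 1 := by
      refine Equiv.ext fun y => Subtype.ext ?_
      show w • w • y.1 = y.1
      rw [← mul_smul, invol_mul_self hw, one_smul]
    have hodd : ¬ 2 ∣ Fintype.card (MulAction.orbit Ce p) := by
      intro h2
      have h3 : Fintype.card (MulAction.orbit Ce p) ∣ Nat.card Ce := by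
        rw [← Nat.card_eq_fintype_card, Nat.card_congr (MulAction.orbitEquivQuotientStabilizer Ce p)]
        exact Subgroup.card_quotient_dvd_card _
      obtain ⟨t, ht⟩ := exists_prime_orderOf_dvd_card' 2 (h2.trans h3)
      exact h.not_commute_invol he1 he (t := (t : G)) (by rw [Subgroup.orderOf_coe, ht])
        (Subgroup.mem_centralizer_singleton_iff.1 t.2).symm
    obtain ⟨⟨y, m, hm⟩, hy⟩ := Equiv.Perm.exists_fixed_point_of_prime hodd hσ
    have hy' : w • y = y := congrArg Subtype.val hy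
    have hye : e • y = y := by
      rw [← hm]
      show e • ((m : G) • p) = (m : G) • p
      rw [← mul_smul, ← Subgroup.mem_centralizer_singleton_iff.1 m.2, mul_smul, hpf]
    obtain ⟨g, rfl⟩ := h.exists_smul y
    have htz := h.isZ_conj_fix hw hy'
    have heH := h.conj_fix.1 hye
    have h7 : h.IsZ ((g⁻¹ * e * g)⁻¹ * (g⁻¹ * w * g) * (g⁻¹ * e * g)⁻¹⁻¹) := h.conj_isZ (inv_mem heH) htz
    have hU : g⁻¹ * e⁻¹ * e⁻¹ * g ∈ h.Ug := by
      obtain ⟨-, a1, -, ea⟩ := h7
      obtain ⟨-, a2, -, eb⟩ := htz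
      refine ⟨a1 * a2, ?_⟩
      rw [map_mul, ← ea, ← eb]
      calc (g⁻¹ * e * g)⁻¹ * (g⁻¹ * w * g) * (g⁻¹ * e * g)⁻¹⁻¹ * (g⁻¹ * w * g) = g⁻¹ * e⁻¹ * (w * e * w) * g := by
            group
        _ = _ := by rw [hinv]
    obtain ⟨a, ha⟩ := hU
    have h8 : (g⁻¹ * e⁻¹ * e⁻¹ * g) ^ (D.q - 1) = 1 := by
      rw [show g⁻¹ * e⁻¹ * e⁻¹ * g = g⁻¹ * (e⁻¹ * e⁻¹) * g⁻¹⁻¹ by simp [mul_assoc], conj_pow,
        (Commute.refl e⁻¹).mul_pow, inv_pow, he]
      simp
    rw [← ha, ← map_pow, ← map_one h.U] at h8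
    have h9 := pow_gcd_eq_one.2 ⟨Pt.pow_four a, h.U_inj h8⟩
    rw [show Nat.gcd 4 (D.q - 1) = 1 from
      Nat.Coprime.pow_left 2 (Nat.coprime_two_left.2 odd_pred : Nat.Coprime 2 (D.q - 1)), pow_one] at h9
    rw [h9, map_one] at ha
    have h10 : e⁻¹ * e⁻¹ = 1 := by
      calc e⁻¹ * e⁻¹ = g * (g⁻¹ * e⁻¹ * e⁻¹ * g) * g⁻¹ := by group
        _ = 1 := by rw [← ha]; group
    exact he1 (inv_eq_one.1 (eq_one_of_sq odd_pred (by rw [inv_pow, he, inv_one]) h10))
  obtain ⟨w1, hw1, hw1b, hi1⟩ := hswap a b ha hb hab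
  obtain ⟨w2, hw2, hw2c, hi2⟩ := hswap a c ha hc hac
  have hm : w1 * w2 ∈ Ce := by
    rw [Subgroup.mem_centralizer_singleton_iff]
    have hwi : w2⁻¹ = w2 := inv_eq_of_mul_eq_one_right (invol_mul_self hw2)
    have hwj : w1⁻¹ = w1 := inv_eq_of_mul_eq_one_right (invol_mul_self hw1)
    have e2 : w2 * e = e⁻¹ * w2 := by rw [← hi2, mul_assoc (w2 * e), invol_mul_self hw2, mul_one]
    have e1 : w1 * e⁻¹ = e * w1 := by
      have : (w1 * e * w1)⁻¹ = e := by rw [hi1, inv_inv]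
      rw [mul_inv_rev, mul_inv_rev, hwj, ← mul_assoc] at this
      calc w1 * e⁻¹ = w1 * e⁻¹ * (w1 * w1) := by rw [invol_mul_self hw1, mul_one]
        _ = _ := by rw [← mul_assoc, this]
    rw [mul_assoc, e2, ← mul_assoc, e1, mul_assoc]
  refine horb c b hc hb (Ne.symm hbc) _ hm ?_
  rw [mul_smul]
  have : w2 • c = a := by rw [← hw2c, ← mul_smul, invol_mul_self hw2, one_smul]
  rw [this, hw1b]

/-- Every two point stabiliser meets the centraliser nontrivially. -/
theorem exists_L {p : h.Om} (hp : p ≠ h.o) : ∃ d ∈ h.C, d ≠ 1 ∧ d • p = p := by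
  classical
  by_contra! hno
  obtain ⟨w, hw, hwp⟩ := h.exists_swap hp
  -- an element of prime order dividing `q - 1`
  have hpow : ∀ d ∈ h.H, d • p = p → d ^ (D.q - 1) = 1 := fun d hd hdp => by
    by_contra h1
    exact hno _ (h.pow_pred_mem_C hd) h1 (h.pow_fix hdp _)
  obtain ⟨d, hd1, hdH, hdp⟩ : ∃ d : G, d ≠ 1 ∧ d ∈ h.H ∧ d • p = p := by
    have h1 := h.card_Sw hp
    obtain ⟨t, t', hne⟩ : ∃ t t' : h.Sw p, t ≠ t' := by
      have : 1 < Nat.card (h.Sw p) := by rw [h1]; have := D.hq; omega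
      haveI := Finite.one_lt_card_iff_nontrivial.1 this
      exact exists_pair_ne _
    refine ⟨t.1 * t'.1, fun e => hne (Subtype.ext ?_), h.smul_o_iff.1 ?_, ?_⟩
    · rw [← mul_one t.1, ← invol_mul_self t'.2.1, ← mul_assoc, e, one_mul]
    · rw [mul_smul, t'.2.2, h.swap_back t.2.1 t.2.2]
    · rw [mul_smul, h.swap_back t'.2.1 t'.2.2, t.2.2]
  have hdo : 0 < _root_.orderOf d := orderOf_pos d
  have hdn : _root_.orderOf d ≠ 1 := fun e => hd1 (orderOf_eq_one_iff.1 e)
  obtain ⟨s, hs, hsd⟩ := Nat.exists_prime_and_dvd hdn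
  set e := d ^ (_root_.orderOf d / s) with he
  have hes : _root_.orderOf e = s := orderOf_pow_orderOf_div hdo.ne' hsd
  have he1 : e ≠ 1 := fun e1 => hs.ne_one (hes ▸ orderOf_eq_one_iff.2 e1)
  have heH : e ∈ h.H := pow_mem hdH _
  have hep : e • p = p := h.pow_fix hdp _
  have hepred := hpow e heH hep
  haveI : Fact s.Prime := ⟨hs⟩
  have hsq : s ∣ D.q - 1 := hes ▸ orderOf_dvd_of_pow_eq_one hepred
  -- its action on the conjugates of the norm one elements
  let E := {l : G // l ∈ h.C ∧ l ^ (D.q + 1) = 1 ∧ l ≠ 1}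
  haveI : Fintype E := Fintype.ofFinite _
  have hcardE : Nat.card E = D.q ^ 3 := by
    have hsec : ∀ a : F, ∃ b : Pt D, b.a = a := fun a => by
      obtain ⟨t, ht⟩ := D.exists_trace (D.bar_norm a)
      exact ⟨⟨a, t, ht⟩, rfl⟩
    choose sec hsec using hsec
    haveI : Fintype {r : D.R0 // r ≠ 1} := Fintype.ofFinite _
    haveI : Fintype D.R0 := Fintype.ofFinite _
    have h1 : Nat.card (F × {r : D.R0 // r ≠ 1}) = D.q ^ 3 := by
      rw [Nat.card_prod, Nat.card_eq_fintype_card (α := {r : D.R0 // r ≠ 1}), Fintype.card_subtype_compl,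
        Fintype.card_subtype_eq, ← Nat.card_eq_fintype_card (α := D.R0), D.card_R0, Nat.card_eq_fintype_card, D.hF,
        Nat.add_sub_cancel]
      ring
    rw [← h1]
    refine (Nat.card_eq_of_bijective (fun w : F × {r : D.R0 // r ≠ 1} =>
      (⟨h.U (sec w.1) * h.R w.2.1 * (h.U (sec w.1))⁻¹, h.C.mul_mem (h.C.mul_mem (h.U_mem_C _) (h.R_mem_C _))
        (inv_mem (h.U_mem_C _)), by rw [conj_pow, ← map_pow, D.R0_pow, map_one, mul_one, mul_inv_cancel],
        fun e => w.2.2 (h.R_inj (by rw [map_one]; exact conj_eq_one_iff.1 e))⟩ : E)) ⟨fun w w' e => ?_, fun l => ?_⟩).symm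
    · have e1 : h.U (sec w.1 * (Pt.sca D (w.2.1 : Fˣ) (sec w.1))⁻¹) * h.R w.2.1 =
          h.U (sec w'.1 * (Pt.sca D (w'.2.1 : Fˣ) (sec w'.1))⁻¹) * h.R w'.2.1 := by
        have e' := congrArg Subtype.val e
        calc _ = h.U (sec w.1) * h.R w.2.1 * (h.U (sec w.1))⁻¹ := by rw [map_mul, map_inv, ← h.conj]; group
          _ = _ := e'
          _ = _ := by rw [map_mul, map_inv, ← h.conj]; group
      obtain ⟨e2, e3⟩ := h.eq_of_form e1
      have e4 := congrArg Pt.a e2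
      simp only [Pt.mul_a, Pt.inv_a, Pt.sca_a, hsec, ← e3] at e4
      refine Prod.ext (mul_left_cancel₀ (one_add_ne w.2.2) ?_) (Subtype.ext e3)
      linear_combination e4
    · obtain ⟨b, r, hbr⟩ := h.exists_conj_R l.2.1 l.2.2.1
      have hr : r ≠ 1 := fun e => l.2.2.2 (by rw [hbr, e, map_one, mul_one, mul_inv_cancel])
      refine ⟨(b.a, ⟨r, hr⟩), Subtype.ext ?_⟩
      set z := (sec b.a)⁻¹ * b with hz
      have hza : z.a = 0 := by rw [hz, Pt.mul_a, Pt.inv_a, hsec, Dat.add_self]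
      show h.U (sec b.a) * h.R r * (h.U (sec b.a))⁻¹ = l.1
      rw [hbr, show b = sec b.a * z by rw [hz, mul_inv_cancel_left], map_mul]
      rw [show sec (sec b.a * z).a = sec b.a by rw [← show b = sec b.a * z by rw [hz, mul_inv_cancel_left]]]
      calc h.U (sec b.a) * h.R r * (h.U (sec b.a))⁻¹ =
            h.U (sec b.a) * (h.R r * h.U z) * (h.U z)⁻¹ * (h.U (sec b.a))⁻¹ := by group
        _ = _ := by rw [h.R_commute_Z hza]; group
  let σ : Equiv.Perm E := (MulAut.conj e).toEquiv.subtypeEquiv fun l => by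
    show _ ↔ e * l * e⁻¹ ∈ h.C ∧ (e * l * e⁻¹) ^ (D.q + 1) = 1 ∧ e * l * e⁻¹ ≠ 1
    rw [conj_pow, conj_eq_one_iff, ne_eq, ne_eq, conj_eq_one_iff]
    refine and_congr_left fun _ => ⟨fun hl => h.conj_C heH hl, fun hl => ?_⟩
    have := h.conj_C (inv_mem heH) hl
    simpa [mul_assoc] using this
  have hiter : ∀ (k : ℕ) (l : E), ((σ ^ k) l).1 = e ^ k * l.1 * (e ^ k)⁻¹ := by
    intro k
    induction k with
    | zero => intro l; simp
    | succ k ih =>
      intro l
      rw [pow_succ' σ, Equiv.Perm.mul_apply]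
      show e * ((σ ^ k) l).1 * e⁻¹ = _
      rw [ih, pow_succ' e]
      group
  have hσ : σ ^ s ^ 1 = 1 := by
    refine Equiv.ext fun l => Subtype.ext ?_
    rw [hiter, pow_one, ← hes, pow_orderOf_eq_one]
    simp
  have hndvd : ¬ s ∣ Fintype.card E := by
    rw [← Nat.card_eq_fintype_card, hcardE]
    intro h3
    have := hs.dvd_of_dvd_pow h3
    have hc : Nat.Coprime D.q (D.q - 1) := by
      refine Nat.coprime_of_dvd fun k hk hkq hk1 => hk.ne_one (Nat.dvd_one.1 ?_)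
      have h4 := Nat.dvd_sub hkq hk1
      rwa [show D.q - (D.q - 1) = 1 by have := D.hq; omega] at h4
    exact hs.ne_one (Nat.eq_one_of_dvd_coprimes hc this hsq)
  obtain ⟨⟨l, hlC, hlq, hl1⟩, hfix⟩ := Equiv.Perm.exists_fixed_point_of_prime hndvd hσ
  have hcomm : e * l = l * e := mul_inv_eq_iff_eq_mul.1 (congrArg Subtype.val hfix)
  have hef : e • (l • p) = l • p := by rw [← mul_smul, hcomm, mul_smul, hep]
  have hlp : l • p = p := by
    by_contra hne
    have hlo : l • p ≠ h.o := fun e' => hp (smul_left_cancel l (e'.trans (h.C_o hlC).symm))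
    exact h.fix_two he1 hepred (Ne.symm hp) (Ne.symm hlo) (Ne.symm hne) (h.smul_o_iff.2 heH) hep hef
  exact hno l hlC hl1 hlp

theorem exists_ne_o : ∃ p : h.Om, p ≠ h.o := by
  by_contra! hh
  exact h.H_ne_top (eq_top_iff.2 fun g _ => h.smul_o_iff.1 (hh _))

theorem exists_R_ne_one : ∃ r : D.R0, r ≠ 1 := by
  haveI : Nontrivial D.R0 := Finite.one_lt_card_iff_nontrivial.1 (by rw [D.card_R0]; have := D.hq; omega)
  exact exists_ne 1

/-- The norm one group fixes a second point, and the root group is transitive on the other points. -/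
theorem exists_base : ∃ p₀ : h.Om, p₀ ≠ h.o ∧ (∀ s, h.R s • p₀ = p₀) ∧
    ∀ p : h.Om, p ≠ h.o → ∃ a, h.U a • p₀ = p := by
  obtain ⟨p, hp⟩ := h.exists_ne_o
  obtain ⟨d, hd, hd1, hdp⟩ := h.exists_L hp
  obtain ⟨b, r, hr, -, hp', hrp⟩ := h.shift hd hd1 hp hdp
  refine ⟨_, hp', h.R_fix_all hr hp' hrp, fun p2 hp2 => ?_⟩
  obtain ⟨d2, hd2, hd21, hd2p⟩ := h.exists_L hp2
  obtain ⟨b2, r2, hr2, -, hp2', hrp2⟩ := h.shift hd2 hd21 hp2 hd2p
  obtain ⟨z, hz, hzp⟩ := h.fix_orbit hr hp' hp2' hrp (h.R_fix_all hr2 hp2' hrp2 r)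
  exact ⟨b2 * z, by rw [map_mul, mul_smul, hzp, smul_inv_smul]⟩

end

end Cfsg.Lib.UThreeEven.Hyp
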