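import Cfsg.Agent.UnitaryThreeEven.Setting

/-!
# The points

The group acts on the cosets of the normaliser of the root group. Each involution fixes exactly one point and the root
group acts semiregularly away from its own point.
-/

set_option autoImplicit false
set_option linter.unusedSectionVars false

namespace Cfsg.Lib.UThreeEven.Hyp

universe u v

variable {F : Type u} [Field F] [Fintype F] [CharP F 2] {D : Dat F} {G : Type v} [Group G] [Finite G] (h : Hyp D G)

noncomputable section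

/-- The points. -/
abbrev Om : Type v := G ⧸ h.H

/-- The point of the root group. -/
def o : h.Om := QuotientGroup.mk (1 : G)

theorem smul_o (g : G) : g • h.o = (QuotientGroup.mk g : h.Om) := by
  show (QuotientGroup.mk (g * 1) : h.Om) = _
  rw [mul_one]

theorem exists_smul (p : h.Om) : ∃ g : G, g • h.o = p := by
  induction p using QuotientGroup.induction_on with
  | H g => exact ⟨g, h.smul_o g⟩

theorem smul_o_iff {g : G} : g • h.o = h.o ↔ g ∈ h.H := by
  rw [smul_o, o, QuotientGroup.eq, mul_one, inv_mem_iff]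

theorem smul_eq_iff {a b : G} {p : h.Om} : a • p = b • p ↔ (b⁻¹ * a) • p = p := by
  rw [mul_smul, inv_smul_eq_iff]

theorem conj_fix {g e : G} : e • (g • h.o) = g • h.o ↔ g⁻¹ * e * g ∈ h.H := by
  rw [← h.smul_o_iff, mul_smul, mul_smul, inv_smul_eq_iff]

theorem IsZ.mem_H {t : G} (ht : h.IsZ t) : t ∈ h.H := by
  obtain ⟨-, a, -, rfl⟩ := ht
  exact h.C_le_H (h.U_mem_C a)

theorem U_o (a : Pt D) : h.U a • h.o = h.o := h.smul_o_iff.2 (h.C_le_H (h.U_mem_C a))

theorem C_o {g : G} (hg : g ∈ h.C) : g • h.o = h.o := h.smul_o_iff.2 (h.C_le_H hg)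

theorem isZ_conj_fix {t g : G} (ht : _root_.orderOf t = 2) (hf : t • (g • h.o) = g • h.o) : h.IsZ (g⁻¹ * t * g) := by
  refine h.isZ_of_mem_H ?_ (h.conj_fix.1 hf)
  have : g⁻¹ * t * g = MulAut.conj g⁻¹ t := by simp
  rw [this, MulEquiv.orderOf_eq, ht]

/-- Every involution fixes a point. -/
theorem exists_fix {t : G} (ht : _root_.orderOf t = 2) : ∃ p : h.Om, t • p = p := by
  obtain ⟨g, rfl⟩ := h.exists_conj_x ht
  refine ⟨g • h.o, ?_⟩
  rw [mul_smul, mul_smul, inv_smul_smul, h.C_o (g := h.x) (h.U_mem_C _)]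

/-- An involution fixes one point only. -/
theorem fix_unique {t : G} (ht : _root_.orderOf t = 2) {p p' : h.Om} (hp : t • p = p) (hp' : t • p' = p') : p = p' := by
  obtain ⟨g, rfl⟩ := h.exists_smul p
  obtain ⟨g', rfl⟩ := h.exists_smul p'
  have h1 := h.isZ_conj_fix ht hp
  have h2 := h.isZ_conj_fix ht hp'
  have h3 : g'⁻¹ * g ∈ h.H := h.mem_H_of_conj h1 (by
    rwa [show g'⁻¹ * g * (g⁻¹ * t * g) * (g'⁻¹ * g)⁻¹ = g'⁻¹ * t * g' by group])
  exact h.smul_eq_iff.2 (h.smul_o_iff.2 h3)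

theorem eq_o_of_fix {t : G} (ht : h.IsZ t) {p : h.Om} (hp : t • p = p) : p = h.o :=
  h.fix_unique ht.orderOf hp (h.smul_o_iff.2 ht.mem_H)

/-- The root group is semiregular off its point. -/
theorem U_semireg {a : Pt D} {p : h.Om} (hp : p ≠ h.o) (ha : h.U a • p = p) : a = 1 := by
  by_contra h1
  by_cases h0 : a.a = 0
  · exact hp (h.eq_o_of_fix ⟨fun e => h1 (h.U_inj (e.trans (map_one _).symm)), a, h0, rfl⟩ ha)
  · refine hp (h.eq_o_of_fix (t := h.U (a * a)) ⟨fun e => ?_, a * a, Pt.sq_a a, rfl⟩ ?_)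
    · have := congrArg Pt.b (h.U_inj (e.trans (map_one _).symm))
      rw [Pt.sq_b, Pt.one_b, mul_eq_zero, map_eq_zero, or_self] at this
      exact h0 this
    · rw [map_mul, mul_smul, ha, ha]

theorem pow_fix {d : G} {p : h.Om} (hd : d • p = p) (k : ℕ) : (d ^ k) • p = p :=
  MulAction.mem_stabilizer_iff.1 (pow_mem (MulAction.mem_stabilizer_iff.2 hd) k)

theorem inv_fix {d : G} {p : h.Om} (hd : d • p = p) : d⁻¹ • p = p := inv_smul_eq_iff.2 hd.symm

theorem pow_qsucc {d : G} (hd : d ∈ h.C) : d ^ (D.q + 1) ∈ h.Ug := by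
  obtain ⟨a, r, rfl⟩ := h.mem_C.1 hd
  obtain ⟨b, hb⟩ := h.pow_form a r (D.q + 1)
  rw [hb, h.mem_Ug_iff, D.R0_pow]

/-- In the centraliser, an element fixing another point has order dividing `q + 1`. -/
theorem pow_of_C {d : G} (hd : d ∈ h.C) {p : h.Om} (hp : p ≠ h.o) (hdp : d • p = p) : d ^ (D.q + 1) = 1 := by
  obtain ⟨a, ha⟩ := h.pow_qsucc hd
  have := h.pow_fix hdp (D.q + 1)
  rw [← ha] at this ⊢
  rw [h.U_semireg hp this, map_one]

theorem C_index : (h.C.subgroupOf h.H).index = D.q - 1 := by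
  have h1 := (h.C.subgroupOf h.H).card_mul_index
  rw [Nat.card_congr (Subgroup.subgroupOfEquivOfLe h.C_le_H).toEquiv, h.card_C, h.card_H, mul_comm (D.q - 1)] at h1
  exact Nat.eq_of_mul_eq_mul_left (Nat.mul_pos (pow_pos (by have := D.hq; omega) 3) (Nat.succ_pos _)) h1

instance : (h.C.subgroupOf h.H).Normal :=
  ⟨fun n hn g => Subgroup.mem_subgroupOf.2 (h.conj_C g.2 (Subgroup.mem_subgroupOf.1 hn))⟩

theorem pow_pred_mem_C {d : G} (hd : d ∈ h.H) : d ^ (D.q - 1) ∈ h.C := by
  have := Subgroup.pow_index_mem (h.C.subgroupOf h.H) ⟨d, hd⟩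
  rw [h.C_index, Subgroup.mem_subgroupOf] at this
  simpa using this

/-- An element of the point stabiliser of order dividing `q + 1` lies in the centraliser. -/
theorem mem_C_of_pow {d : G} (hd : d ∈ h.H) (hq : d ^ (D.q + 1) = 1) : d ∈ h.C := by
  obtain ⟨k, hk⟩ : ∃ k : ℕ, (d ^ (D.q - 1)) ^ k = d := by
    have hc : Nat.Coprime (_root_.orderOf d) (D.q - 1) :=
      D.coprime_add_sub.coprime_dvd_left (orderOf_dvd_of_pow_eq_one hq)
    exact exists_pow_eq_self_of_coprime hc.symm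
  exact hk ▸ pow_mem (h.pow_pred_mem_C hd) k

/-- A two point stabiliser has exponent dividing `q ^ 2 - 1`. -/
theorem pow_of_H {d : G} (hd : d ∈ h.H) {p : h.Om} (hp : p ≠ h.o) (hdp : d • p = p) :
    d ^ ((D.q - 1) * (D.q + 1)) = 1 := by
  rw [pow_mul]
  exact h.pow_of_C (h.pow_pred_mem_C hd) hp (h.pow_fix hdp _)

/-- Elements of the centraliser of order dividing `q + 1` are conjugate into the norm one group. -/
theorem exists_conj_R {d : G} (hd : d ∈ h.C) (hq : d ^ (D.q + 1) = 1) :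
    ∃ b r, d = h.U b * h.R r * (h.U b)⁻¹ := by
  obtain ⟨a, r, rfl⟩ := h.mem_C.1 hd
  by_cases hr : r = 1
  · subst hr
    rw [map_one, mul_one] at hq ⊢
    refine ⟨1, 1, ?_⟩
    rw [← map_pow, ← map_one h.U] at hq
    have e1 := h.U_inj hq
    have h4 := Pt.pow_four a
    have := pow_gcd_eq_one.2 ⟨h4, e1⟩
    obtain ⟨k, hk⟩ := D.q_even
    rw [show Nat.gcd 4 (D.q + 1) = 1 from
      Nat.Coprime.pow_left 2 (Nat.coprime_two_left.2 ⟨k, by omega⟩ : Nat.Coprime 2 (D.q + 1)), pow_one] at this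
    simp [this]
  · have hne : (1 : F) + ((r : Fˣ) : F) ≠ 0 := fun e =>
      hr (Subtype.ext (Units.ext (CharTwo.add_eq_zero.1 e).symm))
    obtain ⟨t, ht⟩ := D.exists_trace (D.bar_norm (a.a / (1 + ((r : Fˣ) : F))))
    set b : Pt D := ⟨a.a / (1 + ((r : Fˣ) : F)), t, ht⟩ with hb
    refine ⟨b, r, ?_⟩
    set c : Pt D := b * (Pt.sca D (r : Fˣ) b)⁻¹ with hc
    have e1 : h.U b * h.R r * (h.U b)⁻¹ = h.U c * h.R r := by
      rw [hc, map_mul, map_inv, ← h.conj]
      group
    rw [e1]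
    suffices hz : c⁻¹ * a = 1 by rw [inv_mul_eq_one.1 hz]
    set z := c⁻¹ * a with hz0
    have hza : z.a = 0 := by
      rw [hz0, hc]
      simp only [Pt.mul_a, Pt.inv_a, Pt.sca_a, hb]
      field_simp
      linear_combination a.a * (CharTwo.two_eq_zero : (2 : F) = 0)
    have hcomm : Commute (h.U b * h.R r * (h.U b)⁻¹) (h.U z) := by
      refine Commute.mul_left (Commute.mul_left ?_ ?_) ?_
      · show h.U b * h.U z = h.U z * h.U b
        rw [← map_mul, ← map_mul]
        congr 1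
        ext <;> simp [hza, add_comm]
      · show h.R r * h.U z = h.U z * h.R r
        rw [R_mul]
        congr 2
        ext <;> simp [hza, D.R0_norm]
      · refine Commute.inv_left ?_
        show h.U b * h.U z = h.U z * h.U b
        rw [← map_mul, ← map_mul]
        congr 1
        ext <;> simp [hza, add_comm]
    have e2 : h.U a * h.R r = h.U b * h.R r * (h.U b)⁻¹ * h.U z := by
      rw [hcomm.eq, e1, ← mul_assoc, ← map_mul]
      congr 2
      rw [show z * c = c * z by ext <;> simp [hza, add_comm], hz0, mul_inv_cancel_left]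
    rw [e2, hcomm.mul_pow, conj_pow, ← map_pow h.R, D.R0_pow, map_one, mul_one, mul_inv_cancel, one_mul,
      ← map_pow, ← map_one h.U] at hq
    have e3 := h.U_inj hq
    have := pow_gcd_eq_one.2 ⟨Pt.pow_four z, e3⟩
    obtain ⟨k, hk⟩ := D.q_even
    rwa [show Nat.gcd 4 (D.q + 1) = 1 from
      Nat.Coprime.pow_left 2 (Nat.coprime_two_left.2 ⟨k, by omega⟩ : Nat.Coprime 2 (D.q + 1)), pow_one] at this

/-- The part of the centraliser commuting with a nontrivial norm one element. -/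
theorem comm_R {g : G} (hg : g ∈ h.C) {r : D.R0} (hr : r ≠ 1) (hc : g * h.R r = h.R r * g) :
    ∃ a s, a.a = 0 ∧ g = h.U a * h.R s := by
  obtain ⟨a, s, rfl⟩ := h.mem_C.1 hg
  refine ⟨a, s, ?_, rfl⟩
  have e : h.U a * h.R (s * r) = h.U (Pt.sca D (r : Fˣ) a) * h.R (r * s) := by
    rw [map_mul, map_mul, ← mul_assoc, hc, ← mul_assoc, R_mul, mul_assoc]
  have e1 := congrArg Pt.a (h.eq_of_form e).1
  rw [Pt.sca_a] at e1
  by_contra h0
  exact hr (Subtype.ext (Units.ext (mul_right_cancel₀ h0 (e1.symm.trans (one_mul _).symm))))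

/-- The elements described by `comm_R` commute. -/
theorem comm_special {a b : Pt D} (ha : a.a = 0) (hb : b.a = 0) (r s : D.R0) :
    h.U a * h.R r * (h.U b * h.R s) = h.U b * h.R s * (h.U a * h.R r) := by
  have e : ∀ (t : D.R0) (c : Pt D), c.a = 0 → h.R t * h.U c = h.U c * h.R t := by
    intro t c hc
    rw [R_mul]
    congr 2
    ext <;> simp [hc, D.R0_norm]
  have ec : a * b = b * a := by ext <;> simp [ha, hb, add_comm]
  have er : r * s = s * r := Subtype.ext (mul_comm (r : Fˣ) s)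
  calc h.U a * h.R r * (h.U b * h.R s) = h.U a * (h.R r * h.U b) * h.R s := by group
    _ = h.U (a * b) * h.R (r * s) := by rw [e r b hb, map_mul, map_mul]; group
    _ = h.U (b * a) * h.R (s * r) := by rw [ec, er]
    _ = h.U b * (h.U a * h.R s) * h.R r := by rw [map_mul, map_mul]; group
    _ = _ := by rw [← e s a ha]; group

end

end Cfsg.Lib.UThreeEven.Hyp
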